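import Cfsg.Agent.U62S.Good
import Cfsg.Agent.E62.St
import Cfsg.Agent.S0283
import Cfsg.Agent.PLocal.AmbSyl

/-! Coordinates on a group `2^20 : U₆(2)` or `2^20 : U₆(2).2`. -/

set_option autoImplicit false

namespace Cfsg.Agent.U62S

open Cfsg.Agent.Comp Cfsg.Agent.Comp.BM Cfsg.Agent.E62 Subgroup Cfsg.Agent.PLocal.Amb

variable {X : Type*} [Group X] {A H K : Subgroup X} {a : V → X} {π : X → L}

/-- coordinates on `A` and the action of the normaliser -/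
structure Pre (A : Subgroup X) (a : V → X) (π : X → L) : Prop where
  add : ∀ v w, a (v + w) = a v * a w
  inj : Function.Injective a
  mem : ∀ {y}, y ∈ A ↔ ∃ v, a v = y
  act : ∀ h ∈ 𝐍[A], ∀ v, h * a v * h⁻¹ = a ((π h).1 v)

/-- the structure of the normaliser -/
structure St (A K : Subgroup X) (a : V → X) (π : X → L) : Prop extends Pre A a π where
  le2 : ∀ h ∈ 𝐍[A], π h ∈ Mb2
  KH : K ≤ 𝐍[A]
  dec : ∀ h ∈ 𝐍[A], ∃ v, ∃ k ∈ K, h = a v * k
  fth : ∀ k ∈ K, π k = 1 → k = 1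
  onto : ∀ m ∈ Mb, ∃ k ∈ K, π k = m

theorem exists_pre [Finite X] (h1 : ∀ x ∈ A, ∀ y ∈ A, x * y = y * x) (h2 : ∀ x ∈ A, x * x = 1)
    (hA : Nat.card A = 2 ^ 20) : ∃ a π, Pre A a π := by
  classical
  let : CommGroup A := { (inferInstance : Group A) with
    mul_comm := fun x y => Subtype.ext (h1 x x.2 y y.2) }
  let : Module (ZMod 2) (Additive A) := AddCommGroup.zmodModule fun x => by
    rw [two_nsmul]; exact Subtype.ext (h2 _ x.toMul.2)
  have := Fact.mk Nat.prime_two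
  have e : V ≃ₗ[ZMod 2] Additive A := LinearEquiv.ofFinrankEq _ _ (by
    have := Module.natCard_eq_pow_finrank (K := ZMod 2) (V := Additive A)
    rw [Nat.card_zmod, show Nat.card (Additive A) = _ from hA] at this
    rw [← Nat.pow_right_injective le_rfl this]; simp)
  let a : V → X := fun v => (e v).toMul
  have a1 : ∀ v w, a (v + w) = a v * a w := fun v w => by simp [a]
  have a2 : Function.Injective a := fun v w h => e.injective (Subtype.ext h)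
  have a3 : ∀ {y}, y ∈ A ↔ ∃ v, a v = y :=
    ⟨fun h => ⟨e.symm (Additive.ofMul ⟨_, h⟩), by simp [a]⟩, by rintro ⟨v, rfl⟩; exact (e v).toMul.2⟩
  have k : ∀ h ∈ 𝐍[A], ∃ f : EV 20, ∀ v, h * a v * h⁻¹ = a (f v) := fun h hh => by
    choose f hf using fun v => a3.1 (conj_mem_of_mem_normalizer hh (a3.2 ⟨v, rfl⟩))
    exact ⟨(AddMonoidHom.mk' f fun v w => a2 (by rw [a1, hf, hf, hf, a1, conj_mul])).toZModLinearMap 2,
      fun v => (hf v).symm⟩
  choose f hf using k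
  refine ⟨a, fun h => if hh : h ∈ 𝐍[A] then ⟨f h hh, f h⁻¹ (inv_mem hh), LinearMap.ext fun v => a2 ?_,
    LinearMap.ext fun v => a2 ?_⟩ else 1, a1, a2, a3, fun h hh v => by rw [dif_pos hh, hf]⟩
  · rw [Module.End.mul_apply, ← hf, ← hf]; simp [mul_assoc]
  · rw [Module.End.mul_apply, ← hf, ← hf]; simp [mul_assoc]

namespace Pre

variable (h : Pre A a π)
include h

theorem trans (n : L) : Pre A (fun v => a (n⁻¹.1 v)) fun g => n * π g * n⁻¹ :=
  ⟨fun v w => by rw [map_add, h.add], fun v w e => by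
    rw [← ap_inv' n v, h.inj e, ap_inv'], h.mem.trans ⟨fun ⟨v, e⟩ => ⟨n.1 v, by rwa [ap_inv]⟩,
      fun ⟨_, e⟩ => ⟨_, e⟩⟩, fun g hg v => by rw [h.act g hg, ap_mul, ap_mul, ap_inv]⟩

theorem zero : a 0 = 1 := by simpa using h.add 0 0

theorem amem (v : V) : a v ∈ A := h.mem.2 ⟨v, rfl⟩

theorem anm (v : V) : a v ∈ 𝐍[A] := le_normalizer (h.amem v)

theorem sq (v : V) : a v * a v = 1 := by rw [← h.add, vv, h.zero]

theorem ainv (v : V) : (a v)⁻¹ = a v := inv_eq_of_mul_eq_one_right (h.sq v)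

theorem comm (v w : V) : a v * a w = a w * a v := by rw [← h.add, add_comm, h.add]

theorem sw {g : X} (hg : g ∈ 𝐍[A]) (v : V) : g * a v = a ((π g).1 v) * g := by
  rw [← h.act g hg, inv_mul_cancel_right]

theorem mul {g g' : X} (hg : g ∈ 𝐍[A]) (hg' : g' ∈ 𝐍[A]) : π (g * g') = π g * π g' :=
  Units.ext (LinearMap.ext fun v => h.inj (by
    rw [← h.act _ (mul_mem hg hg'), ap_mul, ← h.act g hg, ← h.act g' hg']; group))

theorem eq_one_iff {g : X} (hg : g ∈ 𝐍[A]) : π g = 1 ↔ ∀ v, g * a v = a v * g :=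
  ⟨fun e v => by rw [h.sw hg, e]; rfl, fun e => Units.ext (LinearMap.ext fun v => h.inj (by
    rw [← h.act g hg, e, mul_inv_cancel_right]; rfl))⟩

theorem at_a (v : V) : π (a v) = 1 := (h.eq_one_iff (h.anm v)).2 (h.comm v)

theorem one : π 1 = 1 := by simpa [h.zero] using h.at_a 0

theorem inv {g : X} (hg : g ∈ 𝐍[A]) : π g⁻¹ = (π g)⁻¹ :=
  eq_inv_of_mul_eq_one_left (by rw [← h.mul (inv_mem hg) hg, inv_mul_cancel, h.one])

theorem cj {g g' : X} (hg : g ∈ 𝐍[A]) (hg' : g' ∈ 𝐍[A]) : π (g * g' * g⁻¹) = π g * π g' * (π g)⁻¹ := by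
  rw [h.mul (mul_mem hg hg') (inv_mem hg), h.mul hg hg', h.inv hg]

/-- the action as a homomorphism -/
def hom : 𝐍[A] →* L := MonoidHom.mk' (fun g => π g) fun g g' => h.mul g.2 g'.2

end Pre

theorem ee0_ne : ee 0 ≠ 0 := fun e => absurd (congrFun e 0) (by decide)

theorem exists_st [Finite X] (hA : Nat.card A = 2 ^ 20) (hKH : K ≤ 𝐍[A]) (hHAK : A ⊔ K = 𝐍[A])
    (F : Type*) [Field F] [Fintype F] (hF : Fintype.card F = 4) {K₀ : Subgroup K} [K₀.Normal]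
    (h2 : ∀ c d : K, c ∉ K₀ → d ∉ K₀ → c * d ∈ K₀) (e : K₀ ≃* Cfsg.PSU 6 F 2)
    (hc : ∀ N : Subgroup K, N.Normal → N ⊓ K₀ = ⊥ → N = ⊥)
    (hmin : ∀ B : Subgroup X, B ≤ A → (∀ h ∈ 𝐍[A], ∀ b ∈ B, h * b * h⁻¹ ∈ B) → B = ⊥ ∨ B = A) :
    ∃ a π, St A K a π := by
  have := Fact.mk Nat.prime_two
  have pA : IsPGroup 2 A := .of_card hA
  have nA : A ≠ ⊥ := fun e => by simp [e] at hA
  have h3 : ∀ x ∈ A, ∀ y ∈ A, x * y = y * x := by
    have := (hmin (A ⊓ 𝐂[A]) inf_le_left fun g hg b hb => conj_mem_of_mem_normalizer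
      (le_normalizer_inf le_rfl (normalizer_le_normalizer_centralizer A) hg) hb).resolve_left
      (inf_centralizer_ne_bot pA pA le_normalizer nA)
    exact fun x hx y hy => (this.ge hy).2 x hx
  have h4 : ∀ x ∈ A, x * x = 1 := by
    let B : Subgroup X := ⟨⟨⟨{x | x ∈ A ∧ x * x = 1}, fun {x y} hx hy => ⟨mul_mem hx.1 hy.1, by
      rw [mul_assoc, ← mul_assoc y, ← h3 x hx.1 y hy.1, mul_assoc x, hy.2, mul_one, hx.2]⟩⟩,
      ⟨one_mem _, one_mul _⟩⟩, fun {x} hx => ⟨inv_mem hx.1, by rw [← mul_inv_rev, hx.2, inv_one]⟩⟩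
    obtain ⟨z, hz⟩ := exists_prime_orderOf_dvd_card' (G := A) 2 (by rw [hA]; norm_num)
    have := (hmin B (fun _ hx => hx.1) fun g hg b hb => ⟨conj_mem_of_mem_normalizer hg hb.1, by
      rw [conj_mul, hb.2]; simp⟩).resolve_left fun e => by
        have : (z : X) ∈ B := ⟨z.2, congrArg Subtype.val (by rw [← sq, ← hz, pow_orderOf_eq_one] : z * z = 1)⟩
        rw [e, mem_bot, OneMemClass.coe_eq_one] at this
        simp [this] at hz
    exact fun x hx => (this.ge hx).2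
  obtain ⟨a, π, h⟩ := exists_pre h3 h4 hA
  have dec : ∀ g ∈ 𝐍[A], ∃ y ∈ A, ∃ k ∈ K, g = y * k := fun g hg =>
    (mem_sup_of_le_normalizer_left hKH).1 (hHAK.ge hg)
  let ρ : K →* L := h.hom.comp (inclusion hKH)
  have := S0283.result (F := F) (q := 2) hF 6 (by norm_num) (by norm_num)
  have := e.isSimpleGroup
  have f0 : ρ.ker ⊓ K₀ = ⊥ := by
    rcases (inferInstance : (ρ.ker.subgroupOf K₀).Normal).eq_bot_or_eq_top with e1 | e1
    · exact disjoint_iff.1 (subgroupOf_eq_bot.1 e1)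
    rw [subgroupOf_eq_top] at e1
    obtain ⟨w, w0, w1⟩ : ∃ w : V, w ≠ 0 ∧ ∀ k : K, (ρ k).1 w = w := by
      by_cases e2 : ∀ k : K, (ρ k).1 (ee 0) = ee 0
      · exact ⟨_, ee0_ne, e2⟩
      obtain ⟨k, hk⟩ := not_forall.1 e2
      have k0 : k ∉ K₀ := fun k0 => hk (by rw [show ρ k = 1 from e1 k0]; rfl)
      refine ⟨_, fun e => hk (eq_of_add e), fun c => ?_⟩
      by_cases c0 : c ∈ K₀
      · rw [show ρ c = 1 from e1 c0]; rfl
      have c1 : ρ c * ρ k = 1 := map_mul ρ c k ▸ e1 (h2 c k c0 k0)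
      have c2 : ρ k * ρ k = 1 := map_mul ρ k k ▸ e1 (h2 k k k0 k0)
      rw [map_add, ← ap_mul, c1, mul_right_cancel (c1.trans c2.symm), add_comm]; rfl
    have o : orderOf (a w) = 2 := orderOf_eq_prime (by rw [sq, h.sq]) fun e => w0 (h.inj (e.trans h.zero.symm))
    rcases hmin (zpowers (a w)) (zpowers_le.2 (h.amem w)) (fun g hg b hb => by
      obtain ⟨y, hy, k, hk, rfl⟩ := dec g hg
      obtain ⟨u, rfl⟩ := h.mem.1 hy
      have : a u * k * a w * (a u * k)⁻¹ = a w := by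
        rw [h.act _ hg, h.mul (h.anm u) (hKH hk), h.at_a, one_mul]; exact congrArg a (w1 ⟨k, hk⟩)
      obtain ⟨n, rfl⟩ := hb
      exact ⟨n, by rw [← conj_zpow, this]⟩) with e | e
    · simp [zpowers_eq_bot.1 e] at o
    · rw [← e, Nat.card_zpowers, o] at hA; norm_num at hA
  have f1 : Function.Injective ρ := (MonoidHom.ker_eq_bot_iff ρ).1 (hc _ inferInstance f0)
  obtain ⟨e1⟩ := exists_psu F hF
  let e2 := e.trans e1
  obtain ⟨T, hT⟩ := u62_module ((Units.coeHom _).comp (ρ.comp (K₀.subtype.comp e2.symm.toMonoidHom)))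
    (Units.val_injective.comp (f1.comp (K₀.subtype_injective.comp e2.symm.injective)))
  let t : L := LinearMap.GeneralLinearGroup.ofLinearEquiv T
  let b : K →* L := (MulAut.conj t⁻¹).toMonoidHom.comp ρ
  have b1 : ∀ c : K₀, b c = e2 c := fun c => by
    have : t * e2 c = ρ c * t := Units.ext (LinearMap.ext fun v => (hT (e2 c) v).trans (by simp [t]))
    change t⁻¹ * ρ c * t⁻¹⁻¹ = _
    rw [inv_inv, mul_assoc, ← this, inv_mul_cancel_left]
  have b2 : ∀ c ∈ K₀, b c ∈ Mb := fun c hc => b1 ⟨c, hc⟩ ▸ (e2 _).2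
  obtain ⟨n, n1, n2⟩ : ∃ n ∈ normalizer (Mb : Set L), ∀ c, n * b c * n⁻¹ ∈ Mb2 := by
    by_cases e : ∀ c : K, c ∈ K₀
    · exact ⟨1, one_mem _, fun c => by simpa using Mb_le_Mb2 (b2 c (e c))⟩
    obtain ⟨d, hd⟩ := not_forall.1 e
    obtain ⟨n, n1, n2⟩ := out_lem F hF (g := b d) (mem_normalizer_fintype fun g hg => by
      obtain ⟨c, hc⟩ := e2.surjective ⟨g, hg⟩
      have := b2 _ ((inferInstance : K₀.Normal).conj_mem _ c.2 d)
      rwa [map_mul, map_mul, map_inv, b1, hc] at this) (map_mul b d d ▸ b2 _ (h2 d d hd hd))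
    refine ⟨n, n1, fun c => ?_⟩
    by_cases k : c ∈ K₀
    · exact Mb_le_Mb2 (WG.conj_mem_of_norm n1 (b2 c k))
    · simpa [mul_assoc] using mul_mem (Mb_le_Mb2 (WG.conj_mem_of_norm n1 (b2 _ (h2 c d k hd)))) (inv_mem n2)
  have h' := (h.trans t⁻¹).trans n
  refine ⟨_, _, h', fun g hg => ?_, hKH, fun g hg => ?_, fun k hk e => ?_, fun m hm => ?_⟩
  · obtain ⟨y, hy, k, hk, rfl⟩ := dec g hg
    obtain ⟨u, rfl⟩ := h.mem.1 hy
    rw [h.mul (h.anm u) (hKH hk), h.at_a, one_mul]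
    exact n2 ⟨k, hk⟩
  · obtain ⟨y, hy, k, hk, rfl⟩ := dec g hg
    obtain ⟨u, rfl⟩ := h'.mem.1 hy
    exact ⟨u, k, hk, rfl⟩
  · rw [conj_eq_one_iff, conj_eq_one_iff] at e
    exact congrArg Subtype.val (f1 (a₁ := ⟨k, hk⟩) (a₂ := 1) (e.trans (map_one ρ).symm))
  · obtain ⟨c, hc⟩ := e2.surjective ⟨_, WG.conj_mem_of_norm' n1 hm⟩
    refine ⟨c, c.1.2, ?_⟩
    change n * b c * n⁻¹ = m
    rw [b1, hc]; simp [mul_assoc]

end Cfsg.Agent.U62S
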