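import Cfsg.Agent.U62S.Good
import Cfsg.Agent.WG.More
import Cfsg.Agent.WG.Loc2

/-! The Sylow 2-subgroup `Y` of the centraliser in `U₆(2)` of an involution of class `2B`. -/

set_option autoImplicit false

namespace Cfsg.Agent.U62S

open Cfsg.Agent.Comp Cfsg.Agent.Comp.BM Cfsg.Agent.E62 Subgroup
open Cfsg.Agent.WG hiding vec vec_zero
open scoped commutatorElement

def ds : List (List ℕ) := [[0], [2], [6], [12], [8], [10], [14], [16], [18], [20], [24], [28], [22, 24], [26]]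

/-- the centraliser of `tau` in the Sylow subgroup -/
noncomputable def YY : Subgroup L := cl x ds
/-- a four-group -/
noncomputable def FF : Subgroup L := cl x (ds.drop 12)

theorem pcY : Pc x 2 ds :=
  have := Fact.mk Nat.prime_two
  pc.sub wd (fs := [(0, [0, 0, 24, 2656, 0, 0, 2560, 2560, 4608, 512, 0, 0, 0, 0]), (0, [0, 0, 8, 1312, 0, 0, 1280, 0, 256, 2048, 0, 0, 0, 0]), (0, [6, 4, 0, 0, 0, 0, 32, 64, 0, 0, 256, 0, 1024, 0]), (0, [332, 328, 0, 0, 144, 160, 0, 0, 0, 0, 0, 0, 0, 0]), (0, [0, 0, 0, 72, 0, 0, 256, 32, 0, 64, 0, 0, 0, 0]), (0, [0, 0, 0, 40, 0, 0, 144, 128, 32, 0, 0, 0, 0, 0]), (0, [40, 40, 2, 0, 64, 72, 0, 0, 0, 0, 0, 0, 0, 0]), (0, [20, 0, 2, 0, 4, 32, 0, 0, 0, 0, 0, 0, 0, 0]), (0, [18, 2, 0, 0, 0, 4, 0, 0, 0, 0, 0, 0, 0, 0]), (0, [1, 8, 0, 0, 2, 0, 0, 0, 0, 0, 0, 0, 0, 0]), (0, [0, 0, 1, 0, 0, 0, 0, 0, 0, 0, 0, 0, 0, 0]), (0,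 [0, 0, 0, 0, 0, 0, 0, 0, 0, 0, 0, 0, 0, 0]), (0, [0, 0, 1, 0, 0, 0, 0, 0, 0, 0, 0, 0, 0, 0]), (0, [0, 0, 0, 0, 0, 0, 0, 0, 0, 0, 0, 0, 0, 0])])
    (us := [[0], [2], [6], [8], [10], [12], [14], [16], [18], [20], [22], [24], [26], [28]])
    (es := [(1, 1), (2, 1), (4, 1), (5, 1), (6, 1), (7, 1), (8, 1), (9, 1), (10, 1), (11, 1), (12, 1), (13, 1), (14, 1), (15, 1)])
    (vs := [[0], [2], [4], [8], [10], [6], [12], [14], [16], [18], [20, 24], [20], [26], [22]]) (by decide +kernel)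

theorem card_YY : Nat.card YY = 2 ^ 14 := pcY.card Nat.prime_two wd
theorem card_FF : Nat.card FF = 2 ^ 2 := (pcY.drop 12).card Nat.prime_two wd
theorem YY_le : YY ≤ Mb := kn_Mb.cl_le (by decide +kernel)
theorem tau_mem : tau ∈ YY := el_mem_cl (by decide)
theorem tau_ne : tau ≠ 1 := wd.ne (v := []) (by decide +kernel)
theorem tau_comm {y : L} (hy : y ∈ YY) : y * tau = tau * y :=
  wd.commute_of_comB (us := ds) (vs := [[26]]) (by decide +kernel) y hy _ (el_mem_cl List.mem_cons_self)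

theorem YY_fix {y : L} (hy : y ∈ YY) : ∃ w, y.1 (ee 6) + ee 6 = tau.1 w + w :=
  im_tau (((cl_le_Fl ok (m := 2303) (m' := 2239) (hm := by decide +kernel) (ws := ds)
    (by decide +kernel)) hy).1 _ (vec_mem_Sp (by decide +kernel)))

/-- transvections -/
def Tv (s : L) : Prop := ∃ g ∈ Mb, g * s * g⁻¹ = el x [28]

theorem Tv.good {s : L} (h : Tv s) {v : V} (hv : s.1 v = v) : Good v s := by
  obtain ⟨g, hg, h⟩ := h
  refine inv_good.back (Mb_le_Mb2 hg) (h ▸ good_t1 ?_)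
  rw [← h, ap_mul, ap_mul, ap_inv, hv]

theorem Tv.ne {s : L} (h : Tv s) : s ≠ 1 := by
  obtain ⟨g, -, h⟩ := h
  rintro rfl
  exact wd.ne (u := []) (v := [28]) (by decide +kernel) (by simpa using h)

theorem le_FF {N : Subgroup L} (h1 : N ≤ YY) (h2 : ∀ y ∈ YY, ∀ n ∈ N, y * n * y⁻¹ ∈ N) (h3 : tau ∈ N)
    (h4 : ∀ s ∈ N, ¬ Tv s) : N ≤ FF := by
  have := Fact.mk Nat.prime_two
  have c : ∀ n ∈ N, ∀ y ∈ YY, ⁅n, y⁆ ∈ N := fun n hn y hy => by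
    simpa [commutatorElement_def, mul_assoc] using mul_mem hn (h2 y hy _ (inv_mem hn))
  have c0 : Cm YY _ _ := pcY.cm wd (a := 0) (b := 4) (es := [[0, 0, 3, 332, 0, 0, 320, 320, 576, 64, 0, 0, 0, 0], [0, 0, 2, 328, 0, 0, 320, 0, 64, 512, 0, 0, 0, 0], [3, 2, 0, 0, 0, 0, 16, 32, 0, 0, 128, 0, 512, 0], [332, 328, 0, 0, 144, 160, 0, 0, 0, 0, 0, 0, 0, 0], [0, 0, 0, 144, 0, 0, 512, 64, 0, 128, 0, 0, 0, 0], [0, 0, 0, 160, 0, 0, 576, 512, 128, 0, 0, 0, 0, 0], [320, 320, 16, 0, 512, 576, 0, 0, 0, 0, 0, 0, 0, 0], [320, 0, 32, 0, 64, 512, 0, 0, 0, 0, 0, 0, 0, 0], [576, 64, 0, 0, 0, 128, 0, 0, 0, 0, 0, 0, 0, 0], [64, 512, 0, 0, 128, 0, 0, 0, 0, 0, 0, 0, 0, 0], [0, 0, 128, 0, 0, 0, 0, 0, 0, 0, 0, 0, 0, 0], [0, 0, 0, 0, 0, 0, 0, 0, 0, 0, 0, 0, 0, 0], [0, 0, 512, 0, 0, 0, 0, 0, 0, 0, 0, 0, 0, 0], [0, 0, 0, 0, 0, 0, 0, 0, 0, 0, 0, 0, 0, 0]]) (by decide +kernel)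
  have c4 : Cm YY _ _ := pcY.cm wd (a := 4) (b := 8) (es := [[0, 0, 0, 9, 0, 0, 32, 4, 0, 8, 0, 0, 0, 0], [0, 0, 0, 10, 0, 0, 36, 32, 8, 0, 0, 0, 0, 0], [20, 20, 1, 0, 32, 36, 0, 0, 0, 0, 0, 0, 0, 0], [20, 0, 2, 0, 4, 32, 0, 0, 0, 0, 0, 0, 0, 0], [36, 4, 0, 0, 0, 8, 0, 0, 0, 0, 0, 0, 0, 0], [4, 32, 0, 0, 8, 0, 0, 0, 0, 0, 0, 0, 0, 0], [0, 0, 8, 0, 0, 0, 0, 0, 0, 0, 0, 0, 0, 0], [0, 0, 0, 0, 0, 0, 0, 0, 0, 0, 0, 0, 0, 0], [0, 0, 32, 0, 0, 0, 0, 0, 0, 0, 0, 0, 0, 0], [0, 0, 0, 0, 0, 0, 0, 0, 0, 0, 0, 0, 0, 0]]) (by decide +kernel)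
  have c8 : Cm YY _ _ := pcY.cm wd (a := 8) (b := 10) (es := [[9, 1, 0, 0, 0, 2, 0, 0, 0, 0, 0, 0, 0, 0], [1, 8, 0, 0, 2, 0, 0, 0, 0, 0, 0, 0, 0, 0], [0, 0, 2, 0, 0, 0, 0, 0, 0, 0, 0, 0, 0, 0], [0, 0, 0, 0, 0, 0, 0, 0, 0, 0, 0, 0, 0, 0], [0, 0, 8, 0, 0, 0, 0, 0, 0, 0, 0, 0, 0, 0], [0, 0, 0, 0, 0, 0, 0, 0, 0, 0, 0, 0, 0, 0]]) (by decide +kernel)
  have c10 : Cm YY _ _ := pcY.cm wd (a := 10) (b := 11) (es := [[0, 0, 1, 0, 0, 0, 0, 0, 0, 0, 0, 0, 0, 0], [0, 0, 0, 0, 0, 0, 0, 0, 0, 0, 0, 0, 0, 0], [0, 0, 4, 0, 0, 0, 0, 0, 0, 0, 0, 0, 0, 0], [0, 0, 0, 0, 0, 0, 0, 0, 0, 0, 0, 0, 0, 0]]) (by decide +kernel)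
  have c11 : Cm YY _ _ := pcY.cm wd (a := 11) (b := 12) (es := [[0, 0, 0, 0, 0, 0, 0, 0, 0, 0, 0, 0, 0, 0], [0, 0, 2, 0, 0, 0, 0, 0, 0, 0, 0, 0, 0, 0], [0, 0, 0, 0, 0, 0, 0, 0, 0, 0, 0, 0, 0, 0]]) (by decide +kernel)
  have s11 : ∀ n ∈ N, n ∈ cl x (ds.drop 11) → n ∈ FF := fun n hn h => by
    obtain ⟨e, he, rfl⟩ := wd.exists_nf two_pos (pcY.drop 11).ser le_rfl h
    have k : ∀ e < 8, (∃ f < 4, Q (nfW 2 (ds.drop 11) e) (nfW 2 (ds.drop 12) f) = true) ∨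
        ∃ g ∈ [[], [36, 4], [36, 6, 4]], inK 524287 g = true ∧
          (Q (cjW g (nfW 2 (ds.drop 11) e)) [28] = true ∨
            Q (cjW g (appendR (nfW 2 (ds.drop 11) e) [26])) [28] = true) := by decide +kernel
    rcases k e he with ⟨f, -, h⟩ | ⟨g, -, h5, h | h⟩
    · exact wd.mem_of_nf h
    · exact absurd ⟨_, kn_Mb.word h5, wd.conj_eq h⟩ (h4 _ hn)
    · exact absurd ⟨_, kn_Mb.word h5, wd.conj_eq h⟩ (h4 _ (by rw [el_appendR]; exact mul_mem hn h3))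
  have d : ∀ k, k ≤ 12 → FF ≤ cl x (ds.drop k) := fun k hk => by
    obtain ⟨j, e⟩ := Nat.exists_eq_add_of_le hk
    rw [FF, e, ← List.drop_drop]; exact cl_drop_le _ _
  have s10 : ∀ n ∈ N, n ∈ cl x (ds.drop 10) → n ∈ FF := fun n hn h => s11 n hn
    (pcY.wit wd (a := 10) (b := 1) (c := 1) c11 (es := [(0, 0), (2, 1)]) (by decide +kernel) h
      fun z hz => s11 _ (c n hn z hz) (c10 n h z hz))
  have s8 : ∀ n ∈ N, n ∈ cl x (ds.drop 8) → n ∈ FF := fun n hn h => s10 n hn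
    (pcY.wit wd (a := 8) (b := 2) (c := 1) c10 (es := [(0, 0), (0, 9), (0, 1), (1, 9)]) (by decide +kernel) h
      fun z hz => d 11 (by norm_num) (s10 _ (c n hn z hz) (c8 n h z hz)))
  have s4 : ∀ n ∈ N, n ∈ cl x (ds.drop 4) → n ∈ FF := fun n hn h => s8 n hn
    (pcY.wit wd (a := 4) (b := 4) (c := 2) c8 (es := [(0, 0), (3, 9), (3, 10), (3, 11), (2, 1), (2, 1), (2, 9), (2, 9), (2, 2), (2, 10), (2, 2), (2, 10), (2, 3), (2, 11), (2, 11), (2, 3)]) (by decide +kernel) h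
      fun z hz => d 10 (by norm_num) (s8 _ (c n hn z hz) (c4 n h z hz)))
  exact fun n hn => s4 n hn
    (pcY.wit wd (a := 0) (b := 4) (c := 4) c4 (es := [(0, 0), (2, 3), (2, 2), (2, 1), (0, 3), (0, 3), (0, 3), (0, 3), (0, 332), (0, 332), (0, 12), (0, 12), (0, 511), (0, 1023), (0, 767), (0, 255)]) (by decide +kernel) (h1 hn)
      fun z hz => d 8 (by norm_num) (s4 _ (c n hn z hz) (c0 n (h1 hn) z hz)))

theorem FF_cases {n : L} (h : n ∈ FF) : n ∈ zpowers tau ∨ n.1 (ee 7) ≠ ee 7 := by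
  obtain ⟨e, he, rfl⟩ := wd.exists_nf two_pos (pcY.drop 12).ser le_rfl h
  have k : ∀ e < 4, (∃ f < 2, Q (nfW 2 (ds.drop 12) e) (nfW 2 [[26]] f) = true) ∨
      wo R LL (nfW 2 (ds.drop 12) e) 128 = 129 := by decide +kernel
  rcases k e he with ⟨f, -, h⟩ | h
  · exact Or.inl (cl_single (x := x) [26] ▸ wd.mem_of_nf h)
  · exact Or.inr fun e1 => absurd (congrFun ((h ▸ vw _ 128).trans e1) 0) (by decide)

theorem ker_tau {v : V} : tau.1 v = v ↔ v ∈ Sp 20 36607 :=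
  ⟨fun h => mem_of_fixB ok (ps := [([26], Yt)]) (by decide +kernel) (mem_top v)
      fun p hp => by rw [List.mem_singleton.1 hp]; exact h,
    fun h => eq_of_add (eq_zero_of_mem_Sp ((op_nO [26]).maps (by decide +kernel) v h))⟩

theorem im_le {v w : V} (h : v = tau.1 w + w) : v ∈ Sp 20 2239 :=
  h ▸ (op_nO [26]).maps (m := 1048575) (by decide +kernel) w (mem_top w)

theorem card_Sp (m : ℕ) : Nat.card (Sp 20 m) = 2 ^ ((Finset.univ : Finset (Fin 20)).filter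
    fun i : Fin 20 => m.testBit i = true).card := by
  let e : Sp 20 m ≃ ({i : Fin 20 // m.testBit i = true} → ZMod 2) :=
    ⟨fun v i => v.1 i, fun f => ⟨fun i => if h : m.testBit i = true then f ⟨i, h⟩ else 0,
      fun i hi => dif_neg (by simp [hi])⟩, fun v => Subtype.ext (funext fun i => by
        by_cases h : m.testBit i = true
        · exact dif_pos h
        · exact (dif_neg h).trans (v.2 i (by simpa using h)).symm),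
      fun f => funext fun i => dif_pos i.2⟩
  rw [Nat.card_congr e, Nat.card_fun, Nat.card_zmod, Nat.card_eq_fintype_card, Fintype.card_subtype]

theorem card_ker : Nat.card (Sp 20 36607) = 2 ^ 12 := (card_Sp _).trans (by decide +kernel)
theorem card_im : Nat.card (Sp 20 2239) = 2 ^ 8 := (card_Sp _).trans (by decide +kernel)

theorem step {F : ℕ → ℕ} {A : EV 20} (h : Op 20 20 F A) {m m' : ℕ} (i : Fin 20)
    (hb : and' (colsIn 20 m' 2239 (F (idS 20))) (and' (sb (Nat.xor (F (Nat.pow 2 i)) 64) 2239)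
      (sb m (Nat.lor m' (Nat.pow 2 i)))) = true) {w : V} (hw : w ∈ Sp 20 m)
    (h1 : A w + ee 6 ∉ Sp 20 2239) : w ∈ Sp 20 m' := by
  simp only [and'_eq_true] at hb
  have k : ∀ u ∈ Sp 20 (Nat.lor m' (Nat.pow 2 i)), u i = 0 → u ∈ Sp 20 m' := fun u hu e j hj => by
    by_cases e1 : j = i
    · rw [e1, e]
    · exact hu j ((Nat.testBit_or _ _ _).trans (by
        rw [hj, Bool.false_or]; exact Nat.testBit_two_pow_of_ne (fun e => e1 (Fin.ext e.symm))))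
  rcases TT.zmod_two_cases (w i) with e | e
  · exact k w (Sp_mono hb.2.2 hw) e
  have h2 : ee i ∈ Sp 20 (Nat.lor m' (Nat.pow 2 i)) :=
    vec_mem_Sp ((beq_iff _ _).2 (by
      change 2 ^ (i : ℕ) ||| (m' ||| 2 ^ (i : ℕ)) = m' ||| 2 ^ (i : ℕ)
      rw [Nat.or_comm m', ← Nat.or_assoc, Nat.or_self]))
  have h3 := h.maps hb.1 _ (k _ (add_mem (Sp_mono hb.2.2 hw) h2) (by
    rw [Pi.add_apply, e, ee_eq, Pi.single_eq_same]; rfl))
  have h4 : vec 20 (F (2 ^ (i : ℕ)) ^^^ 64) ∈ _ := vec_mem_Sp hb.2.1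
  rw [vec_xor, h.vec (by norm_num)] at h4
  refine absurd ?_ h1
  have := add_mem h3 h4
  rwa [map_add, add_assoc, ee, vv'] at this

theorem le_im {W : Submodule (ZMod 2) V} (h1 : ∀ w ∈ W, tau.1 w = w) (h2 : ∀ y ∈ YY, ∀ w ∈ W, y.1 w ∈ W)
    (h3 : ∀ w ∈ W, w + ee 6 ∉ Sp 20 2239) : W ≤ Sp 20 2239 := fun w hw => by
  have a : ∀ w ∈ W, ((el x [6]).1 + 1) w ∈ W := fun w hw =>
    add_mem (h2 (el x [6]) (el_mem_cl (by decide)) w hw) hw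
  have b : ∀ w ∈ W, ((el x [12]).1 + 1) w ∈ W := fun w hw =>
    add_mem (h2 (el x [12]) (el_mem_cl (by decide)) w hw) hw
  exact step Op.id 6 (by decide +kernel) (step (op_nO [6]) (m' := 2303) 9 (by decide +kernel)
    (step (op_nO [12]) (m' := 2815) 10 (by decide +kernel) (step ((op_nO [6]).comp (op_nO [12]))
      (m' := 3839) 15 (by decide +kernel) (ker_tau.1 (h1 w hw)) (h3 _ (a _ (b w hw)))) (h3 _ (b w hw)))
    (h3 _ (a w hw))) (h3 w hw)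

end Cfsg.Agent.U62S
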