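import Cfsg.Agent.U62S.St
import Cfsg.Agent.U62S.Yp

/-! If `2^20 : U₆(2)` or `2^20 : U₆(2).2` is strongly 3-embedded then `2^20` is strongly closed. -/

set_option autoImplicit false

namespace Cfsg.Agent.U62S

open Cfsg.Agent.Comp Cfsg.Agent.Comp.BM Cfsg.Agent.E62 Subgroup Cfsg.Agent.PLocal.Amb

variable {X : Type*} [Group X] {A K : Subgroup X} {a : V → X} {π : X → L}

/-- `u` has coordinates `(v, k)` -/
def Rep (K : Subgroup X) (a : V → X) (π : X → L) (u : X) (v : V) (k : L) : Prop :=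
  ∃ c ∈ K, π c = k ∧ u = a v * c

/-- the normaliser is strongly 3-embedded or the whole group -/
def SE3 (A : Subgroup X) : Prop := ∀ g, 3 ∣ Nat.card ↥(𝐍[A] ⊓ cj(g, 𝐍[A])) → g ∈ 𝐍[A]

theorem mem_of_half {W U : Submodule (ZMod 2) V} (h : W ≤ U) (hc : Nat.card U ≤ 2 * Nat.card W) {y z : V}
    (hy : y ∈ U) (hz : z ∈ U) : y ∈ W ∨ z ∈ W ∨ y + z ∈ W := by
  let W' := W.toAddSubgroup.addSubgroupOf U.toAddSubgroup
  have c := W'.card_mul_index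
  rw [Nat.card_congr (AddSubgroup.addSubgroupOfEquivOfLe (show W.toAddSubgroup ≤ U.toAddSubgroup from h)).toEquiv] at c
  change Nat.card W * _ = Nat.card U at c
  have p : 0 < Nat.card W := Nat.card_pos
  have q : 0 < Nat.card U := Nat.card_pos
  have : W'.index = 1 ∨ W'.index = 2 := by
    have : W'.index ≠ 0 := fun e => by simp [e] at c; omega
    have : W'.index ≤ 2 := by nlinarith
    omega
  rcases this with e | e
  · exact Or.inl ((AddSubgroup.index_eq_one.1 e).ge (AddSubgroup.mem_top (⟨y, hy⟩ : U.toAddSubgroup)))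
  · have := AddSubgroup.add_mem_iff_of_index_two e (a := ⟨y, hy⟩) (b := ⟨z, hz⟩)
    change y + z ∈ W ↔ (y ∈ W ↔ z ∈ W) at this
    tauto

namespace St

variable (h : St A K a π)
include h

theorem pi_mul (v : V) {c : X} (hc : c ∈ 𝐍[A]) : π (a v * c) = π c := by
  rw [h.mul (h.anm v) hc, h.at_a, one_mul]

theorem ker {g : X} (hg : g ∈ 𝐍[A]) (e : π g = 1) : g ∈ A := by
  obtain ⟨v, c, hc, rfl⟩ := h.dec g hg
  rw [h.fth c hc (h.pi_mul v (h.KH hc) ▸ e), mul_one]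
  exact h.amem v

theorem at_mem {g : X} (hg : g ∈ A) : π g = 1 := by
  obtain ⟨v, rfl⟩ := h.mem.1 hg
  exact h.at_a v

theorem rep {u : X} (hu : u ∈ 𝐍[A]) : ∃ v, Rep K a π u v (π u) := by
  obtain ⟨v, c, hc, rfl⟩ := h.dec u hu
  exact ⟨v, c, hc, (h.pi_mul v (h.KH hc)).symm, rfl⟩

theorem injK {c d : X} (hc : c ∈ K) (hd : d ∈ K) (e : π c = π d) : c = d :=
  mul_inv_eq_one.1 (h.fth _ (mul_mem hc (inv_mem hd)) (by
    rw [h.mul (h.KH hc) (inv_mem (h.KH hd)), h.inv (h.KH hd), e, mul_inv_cancel]))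

theorem fix_iff {u : X} (hu : u ∈ 𝐍[A]) {w : V} : a w * u = u * a w ↔ (π u).1 w = w := by
  rw [h.sw hu, mul_left_inj, h.inj.eq_iff, eq_comm]

section Rep

variable {u : X} {v : V} {k : L} (r : Rep K a π u v k)
include r

theorem rep_mem : u ∈ 𝐍[A] := by
  obtain ⟨c, hc, -, rfl⟩ := r
  exact mul_mem (h.anm v) (h.KH hc)

theorem rep_pi : π u = k := by
  obtain ⟨c, hc, rfl, rfl⟩ := r
  exact h.pi_mul v (h.KH hc)

theorem rep_fix (h2 : u * u = 1) : k * k = 1 ∧ k.1 v = v := by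
  have e : k * k = 1 := by rw [← h.rep_pi r, ← h.mul (h.rep_mem r) (h.rep_mem r), h2, h.one]
  obtain ⟨c, hc, rfl, rfl⟩ := r
  rw [mul_assoc, ← mul_assoc c, h.sw (h.KH hc), mul_assoc, h.fth _ (mul_mem hc hc)
    (h.mul (h.KH hc) (h.KH hc) ▸ e), mul_one, ← h.add, ← h.zero] at h2
  exact ⟨e, (eq_of_add (h.inj h2)).symm⟩

theorem rep_cjK {g : X} (hg : g ∈ K) : Rep K a π (g * u * g⁻¹) ((π g).1 v) (π g * k * (π g)⁻¹) := by
  obtain ⟨c, hc, rfl, rfl⟩ := r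
  exact ⟨g * c * g⁻¹, mul_mem (mul_mem hg hc) (inv_mem hg), h.cj (h.KH hg) (h.KH hc), by
    rw [← h.act g (h.KH hg), conj_mul]⟩

theorem rep_cjA (w : V) : Rep K a π (a w * u * (a w)⁻¹) (v + (k.1 w + w)) k := by
  obtain ⟨c, hc, rfl, rfl⟩ := r
  refine ⟨c, hc, rfl, ?_⟩
  rw [h.ainv, mul_assoc, mul_assoc, h.sw (h.KH hc), ← mul_assoc, ← mul_assoc, ← h.add, ← h.add]
  congr 2; abel

theorem rep_mulA (w : V) : Rep K a π (a w * u) (w + v) k := by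
  obtain ⟨c, hc, rfl, rfl⟩ := r
  exact ⟨c, hc, rfl, by rw [h.add, mul_assoc]⟩

theorem rep_cent {y : L} (hy : y ∈ Mb) (h1 : y * k = k * y) {w : V} (h2 : y.1 v + v = k.1 w + w) :
    ∃ p ∈ 𝐍[A] ⊓ centralizer {u}, π p = y := by
  obtain ⟨c, hc, rfl, rfl⟩ := r
  obtain ⟨g, hg, rfl⟩ := h.onto y hy
  refine ⟨a w * g, ⟨mul_mem (h.anm w) (h.KH hg), mem_centralizer_singleton_iff.2 ?_⟩, h.pi_mul w (h.KH hg)⟩
  have e : g * c = c * g := h.injK (mul_mem hg hc) (mul_mem hc hg) (by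
    rw [h.mul (h.KH hg) (h.KH hc), h.mul (h.KH hc) (h.KH hg), h1])
  rw [mul_assoc, mul_assoc, ← mul_assoc g, ← mul_assoc c, h.sw (h.KH hg), h.sw (h.KH hc), mul_assoc,
    mul_assoc, e, ← mul_assoc, ← mul_assoc (a v), ← h.add, ← h.add]
  congr 2
  linear_combination h2 + vv w - vv v

theorem rep_three [Finite X] (hg : Good v k) : 3 ∣ Nat.card ↥(𝐍[A] ⊓ centralizer {u}) := by
  obtain ⟨c, h1, h2, h3, w, h4⟩ := hg
  obtain ⟨p, hp, rfl⟩ := h.rep_cent r h1 h3 h4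
  have := orderOf_map_dvd h.hom ⟨p, hp.1⟩
  rw [← orderOf_coe] at this
  exact (h2 ▸ this).trans (orderOf_dvd_natCard _ hp)

end Rep

theorem card [Finite X] {B : Subgroup X} (hB : B ≤ 𝐍[A]) : ∃ (W : Submodule (ZMod 2) V) (N : Subgroup L),
    (∀ v, v ∈ W ↔ a v ∈ B) ∧ (∀ y, y ∈ N ↔ ∃ b ∈ B, π b = y) ∧ Nat.card W = Nat.card ↥(B ⊓ A) ∧
      Nat.card B = Nat.card W * Nat.card N := by
  let f := h.hom.comp (inclusion hB)
  let W := sub2 (fun v => a v ∈ B) (h.zero ▸ one_mem _) fun v w p q => h.add v w ▸ mul_mem p q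
  have c : Nat.card W = Nat.card ↥(B ⊓ A) := Nat.card_congr (Equiv.ofBijective
    (fun v : W => (⟨a v, v.2, h.amem _⟩ : ↥(B ⊓ A))) ⟨fun v w e => Subtype.ext (h.inj (congrArg Subtype.val e)),
      fun y => let ⟨v, hv⟩ := h.mem.1 y.2.2; ⟨⟨v, show a v ∈ B from hv ▸ y.2.1⟩, Subtype.ext hv⟩⟩)
  refine ⟨W, f.range, fun _ => Iff.rfl, fun y => ⟨fun ⟨b, e⟩ => ⟨b, b.2, e⟩, fun ⟨b, hb, e⟩ => ⟨⟨b, hb⟩, e⟩⟩,
    c, ?_⟩
  rw [← f.ker.card_mul_index, index_ker, c, show f.ker = (B ⊓ A).subgroupOf B from Subgroup.ext fun b =>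
    ⟨fun e => ⟨b.2, h.ker (hB b.2) e⟩, fun e => h.at_mem e.2⟩,
    Nat.card_congr (subgroupOfEquivOfLe inf_le_left).toEquiv]

theorem card_A [Finite X] : Nat.card A = 2 ^ 20 := by
  rw [← Nat.card_congr (Equiv.ofBijective (fun v => (⟨a v, h.amem v⟩ : A))
    ⟨fun v w e => h.inj (congrArg Subtype.val e), fun y => let ⟨v, hv⟩ := h.mem.1 y.2; ⟨v, Subtype.ext hv⟩⟩),
    Nat.card_fun, Nat.card_zmod, Nat.card_fin]

theorem cj_sq {g b : X} (hb : b ∈ cj(g, A)) : b * b = 1 := by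
  obtain ⟨y, hy, rfl⟩ := hb
  obtain ⟨v, rfl⟩ := h.mem.1 hy
  rw [← map_mul, h.sq, map_one]

theorem cj_comm {g b c : X} (hb : b ∈ cj(g, A)) (hc : c ∈ cj(g, A)) : b * c = c * b := by
  obtain ⟨y, hy, rfl⟩ := hb
  obtain ⟨v, rfl⟩ := h.mem.1 hy
  obtain ⟨y, hy, rfl⟩ := hc
  obtain ⟨w, rfl⟩ := h.mem.1 hy
  rw [← map_mul, h.comm, map_mul]

variable [Finite X] (se : SE3 A)
include se

omit h in
theorem syl3 {z : X} (h3 : 3 ∣ Nat.card ↥(𝐍[A] ⊓ centralizer {z})) :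
    ∃ Q, IsSyl 3 Q (centralizer {z}) ∧ Q ≤ 𝐍[A] ∧ 3 ∣ Nat.card Q := by
  have := Fact.mk Nat.prime_three
  obtain ⟨Q, hQ⟩ := exists_isSyl 3 (𝐍[A] ⊓ centralizer {z})
  have d : 3 ∣ Nat.card Q := hQ.pgrp.card_eq_or_dvd.resolve_left fun e =>
    hQ.eq_bot_iff.1 (card_eq_one.1 e) h3
  have l := hQ.le.trans inf_le_left
  refine ⟨Q, isSyl_of_isSyl_normalizer (hQ.mono (le_inf (hQ.le.trans inf_le_right) le_normalizer)
    fun n hn => ⟨se n (d.trans (card_dvd_of_le (le_inf l ?_))), hn.1⟩), l, d⟩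
  rw [← cj_of_mem_normalizer hn.2]
  exact cj_mono n l

theorem trick {g u : X} {v : V} {k : L} (hu : u ∈ cj(g, A)) (r : Rep K a π u v k) (hg : Good v k) :
    k = 1 := by
  have := Fact.mk Nat.prime_three
  obtain ⟨y, hy, rfl⟩ := mem_cj_iff_exists.1 hu
  obtain ⟨w, r'⟩ := h.rep (le_normalizer hy)
  obtain ⟨Q, q1, q2, -⟩ := syl3 se (h.rep_three r' (h.at_mem hy ▸ good_one w))
  obtain ⟨R, r1, r2, r3⟩ := syl3 se (h.rep_three r hg)
  obtain ⟨c, hc, e⟩ := r1.exists_cj_eq (centralizer_singleton_conj g y ▸ q1.cj g)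
  have := se (c * g) (r3.trans (card_dvd_of_le (le_inf r2 (by rw [← e, ← cj_mul]; exact cj_mono _ q2))))
  rw [← h.rep_pi r, ← mul_inv_eq_iff_eq_mul.2 (mem_centralizer_singleton_iff.1 hc)]
  exact h.at_mem (by simpa [mul_assoc] using conj_mem_of_mem_normalizer this hy)

theorem exc {g b : X} (hb : b ∈ cj(g, A)) (h1 : b ∈ 𝐍[A]) (h2 : b ∉ A) :
    ∃ n ∈ 𝐍[A], Rep K a π (n * b * n⁻¹) (ee 6) tau := by
  obtain ⟨v, r⟩ := h.rep h1
  obtain ⟨f1, f2⟩ := h.rep_fix r (h.cj_sq hb)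
  obtain ⟨y, hy, e, w, e1⟩ := (good_or_exc (h.le2 b h1) f1 f2).resolve_left fun hg =>
    h2 (h.ker h1 (h.trick se hb r hg))
  obtain ⟨c, hc, rfl⟩ := h.onto y hy
  have := h.rep_cjA (h.rep_cjK r hc) w
  rw [e, ← e1, vv'] at this
  exact ⟨a w * c, mul_mem (h.anm w) (h.KH hc), by simpa [mul_assoc] using this⟩

theorem not_good {g u : X} (r : Rep K a π u (ee 6) tau) (hu : u ∈ cj(g, A)) {w : V} (hw : a w ∈ cj(g, A)) :
    ¬ Good (w + ee 6) tau := fun hg => tau_ne (h.trick se (mul_mem hw hu) (h.rep_mulA r w) hg)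

theorem weak {g : X} (hg : cj(g, A) ≤ 𝐍[A]) : cj(g, A) = A := by
  refine eq_of_le_of_card_ge (fun b hb => by_contra fun h2 => ?_) (card_cj g A).ge
  obtain ⟨n, hn, r⟩ := h.exc se hb (hg hb) h2
  have hu : n * b * n⁻¹ ∈ cj(n * g, A) := cj_mul n g A ▸ conj_mem_cj n hb
  have hg' : cj(n * g, A) ≤ 𝐍[A] := cj_mul n g A ▸ cj_le_of_mem hg hn
  obtain ⟨W, N, w1, n1, -, c⟩ := h.card hg'
  have c1 : Nat.card N ≤ 2 ^ 9 := by
    by_contra! hc
    obtain ⟨y, -, e⟩ := Jlem (A := N) (fun y hy => by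
      obtain ⟨b, hb, rfl⟩ := (n1 y).1 hy
      exact h.le2 b (hg' hb)) (fun y hy => by
      obtain ⟨b, hb, rfl⟩ := (n1 y).1 hy
      rw [← h.mul (hg' hb) (hg' hb), h.cj_sq hb, h.one]) hc.le
    rw [← card_cj y N, e, card_AA] at hc
    exact lt_irrefl _ hc
  rw [card_cj, h.card_A] at c
  rcases mem_of_half (W := W) (U := Sp 20 36607) (fun w hw => ker_tau.1 (h.rep_pi r ▸
    (h.fix_iff (h.rep_mem r)).1 (h.cj_comm ((w1 w).1 hw) hu))) (by rw [card_ker]; nlinarith)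
    (y := ee 6) (z := vec 20 1536) (vec_mem_Sp (by decide +kernel)) (vec_mem_Sp (by decide +kernel))
    with hw | hw | hw <;> refine h.not_good se r hu ((w1 _).1 hw) (good_tau ?_)
  · exact Or.inl (vv (ee 6) ▸ zero_mem _)
  · exact Or.inr (Or.inr (by rw [ee, ← vec_xor, ← vec_xor]; exact vec_mem_Sp (by decide +kernel)))
  · exact Or.inr (Or.inl (by rw [ee, ← vec_xor, ← vec_xor, ← vec_xor]; exact vec_mem_Sp (by decide +kernel)))

theorem le_norm {S : Subgroup X} (hS : IsPGroup 2 S) (hA : A ≤ S) : S ≤ 𝐍[A] := by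
  have := Fact.mk Nat.prime_two
  refine inf_eq_left.1 (eq_of_inf_normalizer_le hS inf_le_left fun n hn => ⟨hn.1, cj_eq_iff.1 (h.weak se ?_)⟩)
  exact (cj_le_of_mem_normalizer (le_inf hA le_normalizer) hn.2).trans inf_le_right

theorem no_exc {g u : X} (r : Rep K a π u (ee 6) tau) (hu : u ∈ cj(g, A)) : False := by
  have := Fact.mk Nat.prime_two
  let P := (YY.comap h.hom).map (𝐍[A]).subtype ⊓ centralizer {u}
  have mP : ∀ p, p ∈ P ↔ p ∈ 𝐍[A] ∧ π p ∈ YY ∧ p * u = u * p := fun p =>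
    ⟨fun ⟨⟨q, h1, e⟩, h2⟩ => ⟨e ▸ q.2, e ▸ h1, mem_centralizer_singleton_iff.1 h2⟩,
      fun ⟨h1, h2, h3⟩ => ⟨⟨⟨p, h1⟩, h2, rfl⟩, mem_centralizer_singleton_iff.2 h3⟩⟩
  have lP : P ≤ 𝐍[A] := fun p hp => ((mP p).1 hp).1
  have oP : ∀ y ∈ YY, ∃ p ∈ P, π p = y := fun y hy => by
    obtain ⟨w, hw⟩ := YY_fix hy
    obtain ⟨p, hp, rfl⟩ := h.rep_cent r (YY_le hy) (tau_comm hy) hw
    exact ⟨p, (mP p).2 ⟨hp.1, hy, mem_centralizer_singleton_iff.1 hp.2⟩, rfl⟩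
  have fx : ∀ w, a w * u = u * a w ↔ tau.1 w = w := fun w => h.rep_pi r ▸ h.fix_iff (h.rep_mem r)
  have cP : Nat.card P = 2 ^ 26 := by
    obtain ⟨W, N, w1, n1, -, c⟩ := h.card lP
    rw [c, show W = Sp 20 36607 from Submodule.ext fun w => by
      rw [w1, mP, fx, ker_tau, h.at_a]; simp [h.anm], show N = YY from Subgroup.ext fun y =>
      (n1 y).trans ⟨fun ⟨p, hp, e⟩ => e ▸ ((mP p).1 hp).2.1, oP y⟩, card_ker, card_YY]
    norm_num
  obtain ⟨S, hS, h1⟩ := exists_isSyl_ge (L := centralizer {u}) (isPGroup_cj g (.of_card h.card_A))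
    fun b hb => mem_centralizer_singleton_iff.2 (h.cj_comm hb hu)
  obtain ⟨c, hc, h2⟩ := hS.exists_le_cj (.of_card cP) inf_le_right
  have h3 : cj((c * g)⁻¹, P) ≤ 𝐍[A] := by
    rw [mul_inv_rev, cj_mul]
    exact (cj_mono _ (le_cj_iff.1 h2)).trans (h.le_norm se (isPGroup_cj _ hS.pgrp) (cj_le_iff.1 h1))
  have h4 : u ∈ cj(c * g, A) := by
    rw [cj_mul, ← mul_inv_eq_iff_eq_mul.2 (mem_centralizer_singleton_iff.1 hc)]
    exact conj_mem_cj c hu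
  generalize c * g = f at h3 h4
  have h5 : P ≤ 𝐍[cj(f, A)] := normalizer_cj f A ▸ le_cj_iff.2 h3
  have lo : 2 ^ 10 ≤ Nat.card ↥(P ⊓ cj(f, A)) := by
    obtain ⟨W, N, -, n1, c1, c⟩ := h.card h3
    have d1 := card_dvd_of_le (show N ≤ Mb2 from fun y hy => by
      obtain ⟨b, hb, rfl⟩ := (n1 y).1 hy
      exact h.le2 b (h3 hb))
    rw [card_cj, cP] at c
    have d2 := Nat.le_of_dvd (by norm_num) (Nat.dvd_gcd (Dvd.intro_left _ c.symm) (card_Mb2 ▸ d1))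
    rw [← card_cj f⁻¹, cj_inf, cj_inv_cj, ← c1]
    norm_num at d2 c ⊢
    nlinarith
  have lB : P ⊓ cj(f, A) ≤ 𝐍[A] := inf_le_left.trans lP
  obtain ⟨W, N, w1, n1, -, c⟩ := h.card lB
  have nB : ∀ p ∈ P, ∀ b ∈ P ⊓ cj(f, A), p * b * p⁻¹ ∈ P ⊓ cj(f, A) := fun p hp b hb =>
    ⟨P.mul_mem (P.mul_mem hp hb.1) (P.inv_mem hp), conj_mem_of_mem_normalizer (h5 hp) hb.2⟩
  have lW : W ≤ Sp 20 2239 := le_im (fun w hw => (fx w).1 (h.cj_comm ((w1 w).1 hw).2 h4))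
    (fun y hy w hw => by
      obtain ⟨p, hp, rfl⟩ := oP y hy
      exact (w1 _).2 (h.act p (lP hp) w ▸ nB p hp _ ((w1 w).1 hw)))
    fun w hw e => h.not_good se r h4 ((w1 w).1 hw).2 (good_tau (Or.inl e))
  have lN : N ≤ FF := le_FF (fun y hy => by
      obtain ⟨b, hb, rfl⟩ := (n1 y).1 hy
      exact ((mP b).1 hb.1).2.1)
    (fun y hy n hn => by
      obtain ⟨p, hp, rfl⟩ := oP y hy
      obtain ⟨b, hb, rfl⟩ := (n1 n).1 hn
      exact (n1 _).2 ⟨_, nB p hp b hb, h.cj (lP hp) (lB hb)⟩)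
    ((n1 _).2 ⟨u, ⟨(mP u).2 ⟨h.rep_mem r, h.rep_pi r ▸ tau_mem, rfl⟩, h4⟩, h.rep_pi r⟩)
    fun s hs ht => by
      obtain ⟨b, hb, rfl⟩ := (n1 s).1 hs
      obtain ⟨v, r'⟩ := h.rep (lB hb)
      exact ht.ne (h.trick se hb.2 r' (ht.good (h.rep_fix r' (h.cj_sq hb.2)).2))
  have c1 : Nat.card W ≤ 2 ^ 8 := card_im ▸ Nat.card_le_card_of_injective _ (Submodule.inclusion_injective lW)
  by_cases e : N ≤ zpowers tau
  · have c2 := card_le_of_le e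
    rw [Nat.card_zpowers, orderOf_eq_prime (p := 2) (by simpa [sq, tau] using x_sq 13) tau_ne] at c2
    nlinarith
  obtain ⟨n, hn, e⟩ := SetLike.not_le_iff_exists.1 e
  have c2 := card_FF ▸ card_le_of_le lN
  have c3 : Nat.card W ≠ 2 ^ 8 := fun e1 => by
    have := (eq_of_le_of_card_ge (H := AddSubgroup.toSubgroup W.toAddSubgroup)
      (K := AddSubgroup.toSubgroup (Sp 20 2239).toAddSubgroup) lW (card_im.trans e1.symm).le).ge
      (show Multiplicative.ofAdd (ee 7) ∈ _ from vec_mem_Sp (m := 2239) (by decide +kernel))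
    obtain ⟨b, hb, rfl⟩ := (n1 n).1 hn
    exact (FF_cases (lN hn)).resolve_left e ((h.fix_iff (lB hb)).1 (h.cj_comm ((w1 _).1 this).2 hb.2))
  have : Nat.card W ≤ 255 := by omega
  nlinarith

theorem strong {g y : X} (hy : y ∈ A) (h1 : g * y * g⁻¹ ∈ 𝐍[A]) : g * y * g⁻¹ ∈ A := by
  by_contra h2
  obtain ⟨n, -, r⟩ := h.exc se (conj_mem_cj g hy) h1 h2
  exact h.no_exc se r (conj_mem_cj n (conj_mem_cj g hy) |> (cj_mul n g A).ge)

end St

end Cfsg.Agent.U62S
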