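import Cfsg.Agent.E62.MatV
import Cfsg.Agent.WG.Loc

/-! The involutions of `2^20 : U₆(2).2`: all but one class centralise an element of order three. -/

set_option autoImplicit false

namespace Cfsg.Agent.U62S

open Cfsg.Agent.Comp Cfsg.Agent.Comp.BM Cfsg.Agent.E62 Subgroup
open Cfsg.Agent.WG hiding vec vec_zero

/-- the pair `(v, k)` commutes with an element of order three modulo `V` -/
def Good (v : V) (k : L) : Prop :=
  ∃ c ∈ Mb, orderOf c = 3 ∧ c * k = k * c ∧ ∃ w, c.1 v + v = k.1 w + w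

/-- the involution of class `2B` -/
noncomputable def tau : L := el x [26]

/-- the exceptional class -/
def Exc (v : V) (k : L) : Prop :=
  ∃ g ∈ Mb, g * k * g⁻¹ = tau ∧ ∃ w, g.1 v + ee 6 = tau.1 w + w

theorem ap_mul (a b : L) (v : V) : (a * b).1 v = a.1 (b.1 v) := rfl

theorem ap_inv (a : L) (v : V) : a⁻¹.1 (a.1 v) = v := by rw [← ap_mul, inv_mul_cancel]; rfl

theorem ap_inv' (a : L) (v : V) : a.1 (a⁻¹.1 v) = v := by rw [← ap_mul, mul_inv_cancel]; rfl

theorem ap_comm {a b : L} (h : a * b = b * a) (v : V) : a.1 (b.1 v) = b.1 (a.1 v) := by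
  rw [← ap_mul, h, ap_mul]

theorem Mb2_norm : Mb2 ≤ normalizer (Mb : Set L) := fun t ht => (mem_Mb2 ht).elim (le_normalizer ·)
  fun h => by simpa using mul_mem (inv_mem sig_norm) (le_normalizer h)

theorem Good.conj {v : V} {k n : L} (h : Good v k) (hn : n ∈ Mb2) : Good (n.1 v) (n * k * n⁻¹) := by
  obtain ⟨c, h1, h2, h3, w, h4⟩ := h
  refine ⟨n * c * n⁻¹, conj_mem_of_norm (Mb2_norm hn) h1, ((MulAut.conj n).orderOf_eq c).trans h2,
    by rw [conj_mul, h3, conj_mul], n.1 w, ?_⟩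
  simp only [ap_mul, ap_inv]
  rw [← map_add, h4, map_add]

theorem Good.add {v : V} {k : L} (h : Good v k) (m : V) : Good (v + (k.1 m + m)) k := by
  obtain ⟨c, h1, h2, h3, w, h4⟩ := h
  refine ⟨c, h1, h2, h3, w + (c.1 m + m), ?_⟩
  simp only [map_add, ap_comm h3]
  linear_combination h4

theorem Exc.add {v : V} {k : L} (h : Exc v k) (m : V) : Exc (v + (k.1 m + m)) k := by
  obtain ⟨g, h1, h2, w, h3⟩ := h
  refine ⟨g, h1, h2, w + g.1 m, ?_⟩
  have : tau.1 (g.1 m) = g.1 (k.1 m) := by rw [← h2, ap_mul, ap_mul, ap_inv]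
  simp only [map_add, this]
  linear_combination h3

theorem Exc.conj {v : V} {k n : L} (h : Exc v k) (hn : n ∈ Mb2) : Exc (n.1 v) (n * k * n⁻¹) := by
  obtain ⟨g, h1, h2, w, h3⟩ := h
  rcases mem_Mb2 (mul_mem (Mb_le_Mb2 h1) (inv_mem hn)) with h4 | h4
  · exact ⟨_, h4, by rw [← h2]; group, w, by rw [ap_mul, ap_inv, h3]⟩
  · have s : x 38 * tau = tau * x 38 := by
      simpa [tau] using wd.eq (show Q [38, 26] [26, 38] = true by decide +kernel)
    have s1 : (x 38).1 (ee 6) = ee 6 := by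
      simpa [ee] using (vw [38] 64).symm.trans (congrArg (vec 20) (show _ = 64 by decide +kernel))
    refine ⟨_, h4, ?_, (x 38).1 w, ?_⟩
    · rw [← mul_inv_eq_iff_eq_mul.2 s, ← h2]; group
    · rw [ap_mul, ap_mul, ap_inv, ← s1, ← map_add, h3, map_add, ap_comm s]

/-- the alternative for involutions -/
def GE (v : V) (k : L) : Prop := Good v k ∨ Exc v k

theorem GE.conj {v : V} {k n : L} (h : GE v k) (hn : n ∈ Mb2) : GE (n.1 v) (n * k * n⁻¹) :=
  h.imp (·.conj hn) (·.conj hn)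

/-- a property of pairs invariant under conjugation -/
structure Inv (P : V → L → Prop) : Prop where
  cj : ∀ v k n, n ∈ Mb2 → P v k → P (n.1 v) (n * k * n⁻¹)
  ad : ∀ v k m, P v k → P (v + (k.1 m + m)) k
  gd : ∀ v k, Good v k → P v k

theorem inv_good : Inv Good := ⟨fun _ _ _ hn h => h.conj hn, fun _ _ m h => h.add m, fun _ _ h => h⟩

theorem inv_ge : Inv GE :=
  ⟨fun _ _ _ hn h => h.conj hn, fun _ _ m h => h.imp (·.add m) (·.add m), fun _ _ => Or.inl⟩

theorem Inv.back {P : V → L → Prop} (h : Inv P) {v : V} {k n : L} (hn : n ∈ Mb2)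
    (h1 : P (n.1 v) (n * k * n⁻¹)) : P v k := by
  simpa [ap_inv, mul_assoc] using h.cj _ _ _ (inv_mem hn) h1

/-- the selected bits -/
noncomputable def cmp (cs : List ℕ) (v : ℕ) : ℕ :=
  List.rec (motive := fun _ => ℕ) 0
    (fun c _ ih => Nat.add (Nat.land (Nat.shiftRight v c) 1) (Nat.mul 2 ih)) cs

/-- descent to a base vector along a table of letters -/
noncomputable def run (K im tab : ℕ) (cs bs : List ℕ) (n : ℕ) : ℕ → Bool :=
  Nat.rec (motive := fun _ => ℕ → Bool) (fun _ => false) (fun _ ih v => or' (anyL bs (Nat.beq v))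
    (force (Dig.dig 5 tab (cmp cs v)) fun a => and' (tb K a)
      (force (wo R LL [Nat.mul 2 a] v) fun w => force (Nat.xor w (Nat.land w im)) ih))) n

theorem run_ok {P : V → Prop} {K im tab : ℕ} {cs bs : List ℕ}
    (h1 : ∀ a, K.testBit a = true → ∀ v, P ((x (2 * a)).1 v) → P v)
    (h2 : ∀ v, ∀ m ∈ Sp 20 im, P v → P (v + m)) (h3 : ∀ b ∈ bs, P (vec 20 b)) {n v : ℕ}
    (h : run K im tab cs bs n v = true) : P (vec 20 v) := by
  induction n generalizing v with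
  | zero => exact absurd h Bool.false_ne_true
  | succ n ih =>
    change or' _ (force _ fun a => and' _ (force _ fun w => force _ (run K im tab cs bs n))) = true at h
    simp only [or'_eq_true, force_eq, and'_eq_true, anyL_iff, beq_iff, tb_eq] at h
    rcases h with ⟨b, hb, rfl⟩ | ⟨h4, h5⟩
    · exact h3 _ hb
    refine h1 _ h4 _ ?_
    have h6 := ih h5
    generalize Dig.dig 5 tab (cmp cs v) = a at h6 ⊢
    have e : (x (2 * a)).1 (vec 20 v) = vec 20 (wo R LL [Nat.mul 2 a] v) := by simp [vw]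
    rw [e]
    generalize wo R LL [Nat.mul 2 a] v = w at h6 ⊢
    have := h2 _ (vec 20 (w &&& im)) (fun i hi => by simp [vec, hi]) h6
    rwa [show Nat.xor w (Nat.land w im) = w ^^^ (w &&& im) from rfl, vec_xor, add_assoc, vv,
      add_zero] at this

theorem exists_xs {l : List ℕ} {v : V} (h : v ∈ Submodule.span (ZMod 2) (vec 20 '' {a | a ∈ l})) :
    ∃ j < 2 ^ l.length, v = vec 20 (xs l j) := by
  induction l generalizing v with
  | nil => exact ⟨0, by simp, by simpa [xs, vec_zero] using h⟩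
  | cons a l ih =>
    rw [show vec 20 '' {b | b ∈ a :: l} = insert (vec 20 a) (vec 20 '' {b | b ∈ l}) by
      rw [← Set.image_insert_eq]; congr 1; ext b; simp, Submodule.mem_span_insert] at h
    obtain ⟨c, z, hz, rfl⟩ := h
    obtain ⟨j, hj, rfl⟩ := ih hz
    refine ⟨c.val + 2 * j, by have := c.val_lt; rw [List.length_cons, pow_succ]; omega, ?_⟩
    change _ = vec 20 ((((c.val + 2 * j) &&& 1) * a) ^^^ force ((c.val + 2 * j) >>> 1) (xs l))
    rw [vec_xor, force_eq, Nat.and_one_is_mod, Nat.shiftRight_one, Nat.add_mul_mod_self_left,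
      Nat.add_mul_div_left _ _ two_pos, Nat.div_eq_of_lt c.val_lt, zero_add, Nat.mod_eq_of_lt c.val_lt]
    rcases TT.zmod_two_cases c with rfl | rfl
    · simp [vec_zero]
    · rw [one_smul, ZMod.val_one, one_mul]

/-- all vectors of a coset of a coordinate subspace pass the test -/
noncomputable def covB (o m : ℕ) (l : List ℕ) (p : ℕ → Bool) : Bool :=
  and' (allLT 20 fun i => or' (not' (tb m i)) (anyL l (Nat.beq (Nat.pow 2 i))))
    (allB (Nat.pow 2 l.length) fun j => force (Nat.xor o (xs l j)) p)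

theorem cov_ok {P : V → Prop} {o m : ℕ} {l : List ℕ} {p : ℕ → Bool} (h : covB o m l p = true)
    (hp : ∀ v, p v = true → P (vec 20 v)) {u : V} (hu : u ∈ Sp 20 m) : P (vec 20 o + u) := by
  simp only [covB, and'_eq_true, allLT_iff, allB_iff, or'_eq_true, not'_eq_true, tb_eq, anyL_iff,
    beq_iff, force_eq] at h
  obtain ⟨j, hj, rfl⟩ := exists_xs (l := l) (Sp_le (fun i hi e => by
    obtain ⟨b, hb, e1⟩ := (h.1 i hi).resolve_left (not_not.2 e)
    exact Submodule.subset_span ⟨_, hb, congrArg _ e1.symm⟩) hu)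
  exact vec_xor o _ ▸ hp _ (h.2 j hj)

/-- the operation of `k + 1` -/
noncomputable def nO (k : List ℕ) (M : ℕ) : ℕ := Nat.xor (wo R LL k M) M

theorem op_nO (k : List ℕ) : Op 20 20 (nO k) ((el x k).1 + 1) := (op_wo ok k).add Op.id

theorem I_eq : idS 20 = I := (okL_I ok).symm

/-- `Sp im` lies in the image of `k + 1` -/
noncomputable def imB (k : List ℕ) (Y im : ℕ) : Bool := colsIn 20 im 0 (Nat.xor I (nO k (mo 20 R Y I)))

theorem im_ok {k : List ℕ} {Y im : ℕ} (h : imB k Y im = true) {m : V} (hm : m ∈ Sp 20 im) :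
    ∃ w, m = (el x k).1 w + w :=
  ⟨_, eq_of_add (eq_zero_of_mem_Sp ((Op.id.add ((op_nO k).comp (op_mo ok Y))).maps (I_eq ▸ h) m hm))⟩

/-- the kernel of `k + 1` lies in the sum of the image and `Sp m` -/
noncomputable def keB (k : List ℕ) (Y m : ℕ) : Bool :=
  colsIn 20 1048575 m (Nat.xor (Nat.xor I (nO k (mo 20 R Y I))) (mo 20 R Y (nO k I)))

theorem ke_ok {k : List ℕ} {Y m : ℕ} (h : keB k Y m = true) {v : V} (hv : (el x k).1 v = v) :
    ∃ w, v + ((el x k).1 w + w) ∈ Sp 20 m := by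
  have := ((Op.id.add ((op_nO k).comp (op_mo ok Y))).add ((op_mo ok Y).comp (op_nO k))).maps
    (by rw [I_eq]; exact h) v (mem_top v)
  simp only [LinearMap.add_apply, Module.End.mul_apply, Module.End.one_apply, hv, vv, map_zero,
    add_zero] at this
  exact ⟨_, this⟩

/-- the word `c` shows that the pair is good -/
noncomputable def gdB (k : List ℕ) (im : ℕ) (p : ℕ × List ℕ) : Bool :=
  and' (inK 524287 p.2) (and' (ordB Q 3 p.2) (and' (Q (appendR p.2 k) (appendR k p.2))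
    (sb (Nat.xor (wo R LL p.2 p.1) p.1) im)))

theorem gd_ok {k : List ℕ} {Y im : ℕ} (h : imB k Y im = true) {p : ℕ × List ℕ}
    (hp : gdB k im p = true) : Good (vec 20 p.1) (el x k) := by
  simp only [gdB, and'_eq_true] at hp
  have := Fact.mk Nat.prime_three
  refine ⟨_, kn_Mb.word hp.1, wd.orderOf_eq hp.2.1, by simpa [el_appendR] using wd.eq hp.2.2.1, ?_⟩
  rw [← vw, ← vec_xor]
  exact im_ok h (vec_mem_Sp hp.2.2.2)

/-- the check for one class of involutions -/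
noncomputable def clB (k : List ℕ) (Y im K tab o m : ℕ) (cs es : List ℕ) (ps : List (ℕ × List ℕ)) : Bool :=
  and' (imB k Y im) (and' (allL ps (gdB k im)) (and' (allLT 19 fun a => or' (not' (tb K a))
    (Q (Nat.mul 2 a :: k) (appendR k [Nat.mul 2 a]))) (and' (Nat.blt K 524288)
      (covB o m (mapR (Nat.pow 2) cs) (run K im tab cs (appendR es (mapR Prod.fst ps)) 12)))))

theorem cl_ok {P : V → L → Prop} (hP : Inv P) {k : List ℕ} {Y im K tab o m : ℕ} {cs es : List ℕ}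
    {ps : List (ℕ × List ℕ)} (h : clB k Y im K tab o m cs es ps = true)
    (he : ∀ e ∈ es, P (vec 20 e) (el x k)) {u : V} (hu : u ∈ Sp 20 m) : P (vec 20 o + u) (el x k) := by
  simp only [clB, and'_eq_true, allL_iff, allLT_iff, or'_eq_true, not'_eq_true, tb_eq, blt_iff] at h
  obtain ⟨h1, h2, h3, h4, h5⟩ := h
  refine cov_ok (P := (P · (el x k))) h5 (fun v => run_ok (P := (P · (el x k))) (fun a ha v hv => ?_)
    (fun v m hm hv => ?_) fun b hb => ?_) hu
  · have a1 : a < 19 := by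
      by_contra hc
      rw [Nat.testBit_lt_two_pow (h4.trans_le (Nat.pow_le_pow_right two_pos (not_lt.1 hc)))] at ha
      exact Bool.false_ne_true ha
    have a2 : x (2 * a) * el x k = el x k * x (2 * a) := by
      simpa [el_appendR] using wd.eq ((h3 a a1).resolve_left (not_not.2 ha))
    refine hP.back (n := x (2 * a)) (Mb_le_Mb2 (kn_Mb _ ?_)) (by rwa [a2, mul_inv_cancel_right])
    rw [Nat.mul_div_cancel_left _ two_pos]
    exact (Nat.testBit_two_pow_sub_one 19 a).trans (decide_eq_true a1)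
  · obtain ⟨w, rfl⟩ := im_ok h1 hm
    exact hP.ad _ _ w hv
  · rw [appendR_eq, mapR_eq] at hb
    rcases List.mem_append.1 hb with hb | hb
    · exact he b hb
    · obtain ⟨p, hp, rfl⟩ := List.mem_map.1 hb
      exact hP.gd _ _ (gd_ok h1 (h2 p hp))

theorem cl_ok' {P : V → L → Prop} (hP : Inv P) {k : List ℕ} {Y im K tab m : ℕ} {cs es : List ℕ}
    {ps : List (ℕ × List ℕ)} (h : and' (keB k Y m) (clB k Y im K tab 0 m cs es ps) = true)
    (he : ∀ e ∈ es, P (vec 20 e) (el x k)) {v : V} (hv : (el x k).1 v = v) : P v (el x k) := by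
  rw [and'_eq_true] at h
  obtain ⟨w, hw⟩ := ke_ok h.1 hv
  have := hP.ad _ _ w (cl_ok hP h.2 he hw)
  rwa [vec_zero, zero_add, add_assoc, vv, add_zero] at this

theorem good_t1 {v : V} (hv : (el x [28]).1 v = v) : Good v (el x [28]) :=
  cl_ok' inv_good (Y := 842498333348457493583344569918507185592147500815790409622180856320)
    (im := 1103) (K := 262143) (m := 31152) (cs := [4, 5, 7, 8, 11, 12, 13, 14]) (es := [])
    (tab := 0x8441002e000420f80007805f0442000ae308c0e68ae318c5e18c5718c6310440f0bdef0bc0109e01805010c1eb33e3080608046088ae2004611882268c6205be21044113c408404280042f0802f384273be317c5018a10f5862b7bce0018d1784085802b3c0278410141a105860b59c218c0215a02f5802b7bde78be318c411318c77c62079def8be3131cc684030842013bdef398c6006210c6200820184400)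
    (ps := [(0, [32, 2]), (16, [30, 12]), (8224, [30, 12])]) (by decide +kernel) (by simp) hv

theorem good_sig {v : V} (hv : (el x [38]).1 v = v) : Good v (el x [38]) :=
  cl_ok' inv_good (Y := 279968092772225526350034486512089453244669070012236109535005333429292604996355114579925279353285378048)
    (im := 75924) (K := 388458) (m := 820803) (cs := [0, 1, 6, 9, 10, 15, 18, 19]) (es := [])
    (tab := 0x7bd4f7bdef7aa4f7bdef7bde87bdea7bdef7bd4a7bdef7bdef2a108421087bdef7bdef43d08420a8318c654210840c63421031a0681950804d08420a318c6318c64210841908318c6318c632168420c8842108421082e1082e0b2c210816059197032e060843208421906520ac2b084a109425584a50ac2b94a527be4f94a5294a527bdef18c633486618c6358503415007bde8340c894a5218c638402179800)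
    (ps := [(0, [32, 2]), (1, [32, 2]), (1536, [32, 2])]) (by decide +kernel) (by simp) hv

theorem good_t3 {v : V} (hv : (el x [12, 26]).1 v = v) : Good v (el x [12, 26]) :=
  cl_ok' inv_good (Y := 1236127205932013833500893438352906072314862001427307264158550935246649844250245960641182750933669297394300181544962)
    (im := 0) (K := 0) (m := 0) (cs := []) (es := []) (tab := 0)
    (ps := [(0, [36, 6])]) (by decide +kernel) (by simp) hv

theorem good_st {v : V} (hv : (el x [38, 28]).1 v = v) : Good v (el x [38, 28]) :=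
  cl_ok' inv_good (Y := 279985180668512893630693646685738810504084224996872456340509479680662368346308709404316363249476960768)
    (im := 0) (K := 0) (m := 0) (cs := []) (es := []) (tab := 0)
    (ps := [(0, [32, 2])]) (by decide +kernel) (by simp) hv

/-- a right inverse of `tau + 1` -/
def Yt : ℕ := 890325278735982728579083871965957539434566157297055424901346481158488320

theorem ge_tau {v : V} (hv : tau.1 v = v) : GE v tau :=
  cl_ok' inv_ge (Y := Yt) (im := 2239) (K := 327675) (m := 34368) (cs := [6, 9, 10, 15]) (es := [64])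
    (tab := 0x93e5278cc3181e690c00) (ps := [(0, [36, 6]), (1536, [36, 30, 12, 6])]) (by decide +kernel)
    (fun e he => Or.inr ⟨1, one_mem _, by simp [tau], 0, by
      rw [List.mem_singleton.1 he, map_zero, add_zero]; exact vv _⟩) hv

theorem im_tau {m : V} (hm : m ∈ Sp 20 2239) : ∃ w, m = tau.1 w + w :=
  im_ok (Y := Yt) (by decide +kernel) hm

theorem good_tau {v : V} (h : v ∈ Sp 20 2239 ∨ v + vec 20 1536 ∈ Sp 20 2239 ∨
    v + vec 20 1600 ∈ Sp 20 2239) : Good v tau := by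
  have k : ∀ p, gdB [26] 2239 p = true → v + vec 20 p.1 ∈ Sp 20 2239 → Good v tau := fun p hp h => by
    obtain ⟨w, hw⟩ := im_tau h
    have := (gd_ok (Y := Yt) (by decide +kernel) hp).add w
    rwa [← tau, ← hw, add_comm v, vv'] at this
  rcases h with h | h | h
  · exact k (0, [36, 6]) (by decide +kernel) (by rwa [vec_zero, add_zero])
  · exact k (1536, [36, 30, 12, 6]) (by decide +kernel) h
  · exact k (1600, [6, 36, 30, 12]) (by decide +kernel) h

theorem irr {U : Submodule (ZMod 2) V} (h : ∀ g ∈ Mb, ∀ v ∈ U, g.1 v ∈ U) {u : V} (hu : u ∈ U)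
    (h0 : u ≠ 0) (v : V) : v ∈ U := by
  have k : ∀ l : List (List ℕ), (∀ a ∈ l, el x a ∈ AA) → ∃ w ∈ U, w ≠ 0 ∧ ∀ a ∈ l, (el x a).1 w = w := by
    intro l
    induction l with
    | nil => exact fun _ => ⟨u, hu, h0, by simp⟩
    | cons a l ih =>
      intro hl
      obtain ⟨h1, h2⟩ := List.forall_mem_cons.1 hl
      obtain ⟨w, w1, w2, w3⟩ := ih h2
      by_cases e : (el x a).1 w = w
      · exact ⟨w, w1, w2, List.forall_mem_cons.2 ⟨e, w3⟩⟩
      refine ⟨_, U.add_mem (h _ (AA_le_Mb h1) w w1) w1, fun e1 => e (eq_of_add e1),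
        List.forall_mem_cons.2 ⟨?_, fun b hb => ?_⟩⟩
      · rw [map_add, ← ap_mul, AA_sq h1, add_comm]; rfl
      · rw [map_add, ap_comm (AA_comm _ (h2 b hb) _ h1).eq, w3 b hb]
  obtain ⟨w, w1, w2, w3⟩ := k as fun a ha => el_mem_cl ha
  obtain rfl := (fix_AA (v := w) (show AA ≤ Fx w from cl_le_iff.2 w3)).resolve_left w2
  exact span_e0 (fun a ha => h a ha _ w1) v

/-- the table for the orbits of `L₃(4)` -/
def TAB : ℕ := nat_lit 0x190318c821848801c640288239446388a3210860046042848590490044018c2450c6119080294604188410c6449487110a03108a0948318865218c418c250004041c411942300c23004411880b0046049100014431212520c451108259482388e2218e4420620000028925000ca4044010c0b088e2384601044722909024891240442c8a02c245882202c60594a31290642124421063296052c863886300006488a002400010c2118c308c4918c483186248486404a1290e40904720c841888918ca519064194a4114643890229487094642846258c49111000948040c2458ca0484a3288242946328c49194a4004a440ca51906252805290c122420484a032108190641892420c041182000080020a10842100922180441912522487294a5194a5290a5294a4308000046019485218c6394a5210c6210863948638863000220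

theorem good_one (v : V) : Good v 1 := by
  have k : ∀ u ∈ W0, Good (ee 19 + u) 1 := fun u hu =>
    cl_ok inv_good (k := []) (Y := 0) (im := 0) (K := 458815) (o := 524288) (m := 1023)
      (cs := [1, 2, 3, 4, 5, 6, 7, 8, 9, 0]) (es := []) (tab := 2 ^ 2560 * TAB + TAB)
      (ps := [(524288, [32, 2]), (524362, [32, 2]), (524292, [32, 2]), (524804, [32, 2]), (524289, [32, 2]), (524363, [32, 2]), (524293, [32, 2]), (524805, [32, 2])])
      (by decide +kernel) (by simp) hu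
  have f : AA ≤ Fl 20 524287 1023 (by decide +kernel) := cl_le_Fl ok (by decide +kernel)
  have k2 : ∀ s ∈ SP, ∃ a ∈ AA, a.1 (ee 19) + ee 19 + s ∈ W0 := fun s hs =>
    Sp_le_of_spanB (U := sub2 (fun s => s ∈ SP ∧ ∃ a ∈ AA, a.1 (ee 19) + ee 19 + s ∈ W0)
      ⟨zero_mem _, 1, one_mem _, by simp [vv]⟩ fun s t ⟨s1, a, ha, s2⟩ ⟨t1, b, hb, t2⟩ =>
        ⟨add_mem s1 t1, a * b, mul_mem ha hb, by
          have t3 : b.1 (ee 19) + ee 19 ∈ SP := by
            simpa [add_assoc, vv] using add_mem (W0_le_SP t2) t1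
          have := add_mem (add_mem s2 t2) ((f ha).1 _ t3)
          rw [map_add] at this
          convert this using 1
          rw [ap_mul]
          linear_combination (-1 : V) * vv (a.1 (ee 19)) - vv (b.1 (ee 19)) - vv (ee 19)⟩)
      (vs := [1, 2, 4, 8, 16, 32, 64, 128, 256, 512] ++ cmV R LL (mapR (fun u => (u, 524288)) as))
      (sel := [1, 2, 4, 8, 16, 32, 64, 128, 256, 512, 262144, 131074, 65538, 16448, 8256, 32768, 4608, 2560, 1024, 0]) (m := 524287) (by decide +kernel)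
      (List.forall_mem_append.2 ⟨fun a ha => by
        have : vec 20 a ∈ W0 := vec_mem_Sp ((allL_iff _ (sb · 1023)).1 (by decide +kernel) a ha)
        exact ⟨W0_le_SP this, 1, one_mem _, by simpa [vv] using this⟩,
      cmV_mem ok (by norm_num) fun p hp => by
        rw [mapR_eq] at hp
        obtain ⟨u, hu, rfl⟩ := List.mem_map.1 hp
        refine ⟨?_, _, el_mem_cl hu, by erw [vv]; exact zero_mem _⟩
        erw [← vw, ← vec_xor]
        exact vec_mem_Sp ((allL_iff _ (fun u => sb (wo R LL u 524288 ^^^ 524288) 524287)).1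
          (by decide +kernel) u hu)⟩) hs |>.2
  by_cases h0 : v = 0
  · exact h0 ▸ ⟨el x [32, 2], kn_Mb.word (by decide +kernel),
      have := Fact.mk Nat.prime_three; wd.orderOf_eq (by decide +kernel), by simp, 0, by simp⟩
  obtain ⟨g, hg, h1⟩ : ∃ g ∈ Mb, g.1 v ∉ SP := by
    by_contra! hc
    have := irr (U := sub2 (fun v => ∀ g ∈ Mb, g.1 v ∈ SP) (fun g _ => by simp)
      fun a b ha hb g hg => by rw [map_add]; exact add_mem (ha g hg) (hb g hg))
      (fun g hg w hw h hh => hw _ (mul_mem hh hg)) hc h0 (ee 19) 1 (one_mem _)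
    exact absurd (mem_SP.1 this) (by decide)
  have h2 : g.1 v + ee 19 ∈ SP := mem_SP.2 (by
    rw [Pi.add_apply, (TT.zmod_two_cases _).resolve_left (mt mem_SP.2 h1)]; decide)
  obtain ⟨a, ha, h3⟩ := k2 _ h2
  refine inv_good.back (Mb_le_Mb2 (mul_mem (AA_le_Mb ha) hg)) ?_
  have := k _ (add_mem h3 ((f ha).1 _ h2))
  rw [mul_one, mul_inv_cancel]
  convert this using 1
  rw [map_add, ap_mul]
  linear_combination (-1 : V) * vv (a.1 (ee 19)) - vv (g.1 v) - (2 : V) * vv (ee 19)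

/-- the class tree -/
def tree : CT := .sp (.sp (.sp (.sp (.sp (.sp (.sp (.sp (.sp (.sp (.sp (.sp (.sp (.sp (.sp (.sp (.lf [3] []) (.sp (.lf [0, 0, 0] []) .en)) (.sp (.mg 8 0 (.lf [0, 1, 0] [])) .en)) (.sp (.mg 1 0 (.mg 16 0 (.lf [0, 1, 0] [34, 0, 32]))) .en)) (.sp (.mg 8 3 (.mg 16 1 (.sp (.lf [0, 0, 0] [36, 6]) (.sp (.lf [0, 1, 0] [4, 36]) .en)))) .en)) (.sp (.sp (.mg 2 0 (.mg 4 0 (.mg 32 0 (.lf [0, 1, 0] [32, 2])))) (.sp (.mg 2 0 (.mg 4 0 (.mg 32 0 (.lf [0, 2, 0] [2, 32, 2])))) .en)) .en)) (.sp (.mg 1 0 (.sp (.mg 4 0 (.mg 6 0 (.mg 64 0 (.lf [0, 1, 0] [34, 0, 2])))) (.sp (.mg 4 0 (.mg 16 1 (.mg 64 0 (.lf [0, 2, 0] [0, 4, 2, 34])))) .en))) .en)) (.sp (.mg 8 1 (.mg 16 0 (.mg 2 0 (.mg 32 0 (.mg 64 0 (.sp (.lf [0, 1, 0] [32, 2, 36, 6]) (.sp (.lf [0, 2, 0] [4, 2, 36, 34]) .en))))))) .en)) (.sp (.mg 1 0 (.mg 16 0 (.mg 8 0 (.mg 4 0 (.mg 64 1 (.mg 32 0 (.sp (.lf [0, 1, 0] [34, 36, 6, 8]) (.sp (.lf [0, 2, 0] [4, 36, 34,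 0]) .en)))))))) .en)) (.sp (.mg 2 9 (.mg 4 4 (.mg 32 16 (.mg 64 8 (.sp (.sp (.sp (.sp (.lf [0, 0, 0] [36, 6, 32, 2]) (.sp (.lf [0, 1, 0] [4, 36, 32, 2]) .en)) (.sp (.mg 8 0 (.lf [0, 2, 0] [])) .en)) (.sp (.mg 1 0 (.mg 16 0 (.lf [0, 2, 0] [2, 4, 34, 0]))) .en)) (.sp (.mg 8 3 (.mg 16 1 (.sp (.lf [0, 1, 0] [4, 32, 36, 32, 10]) (.sp (.lf [0, 2, 0] [4, 36]) .en)))) .en)))))) .en)) (.sp (.sp (.sp (.sp (.sp (.mg 128 8 (.sp (.mg 256 1 (.mg 512 0 (.mg 1024 0 (.lf [0, 1, 0] [32, 2, 30, 12])))) (.sp (.mg 256 1 (.mg 512 0 (.mg 1024 0 (.lf [0, 2, 0] [2, 32, 2, 30, 12])))) .en))) (.sp (.mg 1 0 (.sp (.mg 4 0 (.mg 512 0 (.mg 1024 0 (.lf [1, 32768] [])))) (.sp (.mg 4 0 (.mg 512 0 (.mg 1024 0 (.lf [1, 32768] [])))) .en))) .en)) (.sp (.mg 8 1 (.mg 16 0 (.mg 2 0 (.mg 32 0 (.mg 512 0 (.lf [1, 16384] [])))))) .en)) (.sp (.mg 1 0 (.mg 16 0 (.mg 8 0 (.mg 4 0 (.mg 256 1 (.lf [1, 24576] [])))))) .en)) (.sp (.mg 2 9 (.mg 4 4 (.mg 32 16 (.mg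 128 8 (.lf [1, 34816] []))))) .en)) .en)) (.sp (.mg 1 0 (.sp (.sp (.sp (.mg 128 16 (.sp (.sp (.mg 512 0 (.mg 256 0 (.mg 2048 0 (.lf [0, 1, 0] [34, 30, 12, 14])))) (.sp (.mg 512 0 (.mg 256 0 (.mg 2048 0 (.lf [0, 2, 0] [0, 2, 34, 30, 12, 14])))) .en)) (.sp (.sp (.mg 512 0 (.mg 256 0 (.mg 2048 0 (.lf [1, 32768] [])))) (.sp (.mg 512 0 (.mg 256 0 (.mg 2048 0 (.lf [1, 32768] [])))) .en)) .en))) (.sp (.mg 128 16 (.mg 16 0 (.mg 2 0 (.mg 512 0 (.lf [1, 8192] []))))) .en)) (.sp (.sp (.mg 16 0 (.mg 8 0 (.mg 4 0 (.mg 512 0 (.mg 256 0 (.lf [1, 16384] [])))))) (.sp (.mg 8 0 (.mg 144 8 (.mg 4 0 (.mg 512 0 (.lf [1, 24576] []))))) .en)) .en)) (.sp (.mg 2 9 (.mg 4 4 (.mg 128 16 (.lf [1, 33792] [])))) .en))) .en)) (.sp (.mg 2 1 (.mg 4 0 (.sp (.sp (.sp (.mg 256 0 (.mg 512 0 (.sp (.sp (.mg 4096 1 (.mg 8192 0 (.lf [0, 1, 0] [32, 30, 32, 2, 22]))) (.sp (.mg 1 0 (.mg 8192 0 (.lf [1, 32768] []))) .en)) (.sp (.mg 8 3 (.mg 4096 1 (.lf [1,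 49152] []))) .en)))) (.sp (.mg 256 0 (.mg 512 0 (.lf [1, 2048] []))) .en)) (.sp (.mg 1 0 (.mg 256 0 (.lf [1, 1024] []))) .en)) (.sp (.sp (.sp (.mg 256 0 (.mg 512 0 (.sp (.sp (.mg 4096 1 (.mg 8192 0 (.lf [0, 2, 0] [2, 32, 30, 32, 2, 22]))) (.sp (.mg 1 0 (.mg 8192 0 (.lf [1, 32768] []))) .en)) (.sp (.mg 8 3 (.mg 4096 1 (.lf [1, 49152] []))) .en)))) (.sp (.mg 256 0 (.mg 512 0 (.lf [1, 2048] []))) .en)) (.sp (.mg 1 0 (.mg 256 0 (.lf [1, 1024] []))) .en)) .en)))) .en)) (.sp (.mg 1 0 (.mg 2 0 (.mg 6 0 (.sp (.sp (.sp (.mg 512 1 (.mg 256 0 (.sp (.mg 4096 3 (.sp (.mg 16384 0 (.lf [0, 1, 0] [32, 2, 30, 34, 30, 14])) (.sp (.mg 16384 0 (.lf [1, 32768] [])) .en))) (.sp (.mg 4096 3 (.lf [1, 57344] [])) .en)))) (.sp (.mg 512 1 (.lf [1, 3072] [])) .en)) (.sp (.sp (.mg 16 0 (.mg 256 0 (.lf [1, 2048] []))) (.sp (.mg 8 0 (.lf [1, 1024] [])) .en)) .en)) (.sp (.sp (.sp (.mg 512 1 (.mg 256 0 (.sp (.mg 4096 3 (.sp (.mg 16384 0 (.lf [0,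 2, 0] [2, 32, 30, 34, 0, 12, 2])) (.sp (.mg 16384 0 (.lf [1, 32768] [])) .en))) (.sp (.mg 4096 3 (.lf [1, 57344] [])) .en)))) (.sp (.mg 512 1 (.lf [1, 3072] [])) .en)) (.sp (.sp (.mg 16 0 (.mg 256 0 (.lf [1, 2048] []))) (.sp (.mg 8 0 (.lf [1, 1024] [])) .en)) .en)) .en))))) .en)) (.sp (.sp (.sp (.mg 8 1 (.mg 16 0 (.sp (.sp (.mg 128 4 (.sp (.sp (.mg 256 0 (.mg 1024 0 (.mg 2048 0 (.sp (.lf [0, 1, 0] [32, 2, 30, 12, 36, 6]) (.sp (.lf [0, 2, 0] [4, 2, 36, 34, 30, 12]) .en))))) (.sp (.mg 256 0 (.mg 1024 0 (.mg 2048 0 (.lf [1, 16384] [])))) .en)) (.sp (.mg 1 0 (.mg 256 0 (.mg 1024 0 (.lf [1, 8192] [])))) .en))) (.sp (.mg 1 0 (.sp (.sp (.mg 256 0 (.lf [1, 4096] [])) (.sp (.mg 256 0 (.lf [1, 20480] [])) .en)) (.sp (.mg 129 1 (.mg 256 0 (.lf [1, 12288] []))) .en))) .en)) (.sp (.mg 2 9 (.mg 128 4 (.lf [1, 4608] []))) .en)))) (.sp (.mg 8 1 (.mg 16 0 (.lf [1, 64] []))) .en)) (.sp (.mg 1 0 (.mg 2 0 (.lf [1, 96] []))) .en))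 .en)) (.sp (.mg 1 0 (.sp (.sp (.mg 8 0 (.mg 24 0 (.sp (.mg 128 9 (.sp (.sp (.sp (.mg 512 0 (.mg 2048 0 (.mg 3072 0 (.sp (.lf [0, 1, 0] [32, 34, 0, 30, 12, 36, 6]) (.sp (.lf [0, 2, 0] [4, 0, 36, 32, 30, 12]) .en))))) (.sp (.mg 512 0 (.mg 2048 0 (.lf [1, 8192] []))) .en)) (.sp (.sp (.mg 512 0 (.mg 2048 0 (.lf [1, 24576] []))) (.sp (.mg 512 0 (.mg 2048 0 (.mg 2 0 (.lf [1, 16384] [])))) .en)) .en)) (.sp (.sp (.sp (.mg 512 0 (.lf [1, 4096] [])) (.sp (.mg 512 0 (.lf [1, 12288] [])) .en)) (.sp (.sp (.mg 512 0 (.lf [1, 28672] [])) (.sp (.mg 512 0 (.lf [1, 20480] [])) .en)) .en)) .en))) (.sp (.mg 128 9 (.lf [1, 4864] [])) .en)))) (.sp (.mg 8 0 (.lf [1, 96] [])) .en)) (.sp (.sp (.mg 2 0 (.lf [1, 32] [])) (.sp (.mg 4 0 (.mg 2 0 (.lf [1, 64] []))) .en)) .en))) .en)) (.sp (.sp (.mg 2 0 (.sp (.mg 8 0 (.sp (.mg 32 0 (.sp (.sp (.mg 256 0 (.sp (.mg 1024 0 (.sp (.sp (.mg 8192 0 (.sp (.lf [0, 3, 0] []) (.sp (.lf [0, 4, 0] []) .en)))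 (.sp (.mg 8192 0 (.lf [1, 16384] [])) .en)) (.sp (.sp (.mg 8192 0 (.mg 8208 0 (.lf [0, 4, 0] [36, 6]))) (.sp (.mg 8192 0 (.lf [1, 16384] [])) .en)) .en))) (.sp (.mg 1024 0 (.lf [1, 2048] [])) .en))) (.sp (.mg 256 0 (.lf [1, 512] [])) .en)) (.sp (.sp (.mg 256 0 (.sp (.mg 1024 0 (.mg 260 0 (.sp (.mg 8192 0 (.mg 1088 0 (.lf [0, 4, 0] [36, 6, 32, 2]))) (.sp (.mg 8192 0 (.lf [1, 16384] [])) .en)))) (.sp (.mg 1024 0 (.lf [1, 2048] [])) .en))) (.sp (.mg 256 0 (.lf [1, 512] [])) .en)) .en))) (.sp (.mg 32 0 (.lf [1, 64] [])) .en))) (.sp (.mg 8 0 (.lf [1, 16] [])) .en))) (.sp (.mg 2 0 (.lf [1, 4] [])) .en)) .en)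

theorem kn_Mb2 : Kn x Mb2 1048575 :=
  (kn_Mb.mono Mb_le_Mb2).lor (K' := 524288) (wd.kn_of_mem (ws := [[38]])
    (cl_le_iff.2 fun u hu => by rw [List.mem_singleton.1 hu]; simpa using T2_le_Mb2 sig_mem)
    (by decide +kernel))

theorem cls {k : L} (hk : k ∈ Mb2) : Cls x 2 Mb2 [[28], [26], [12, 26], [38], [38, 28]] k := by
  have := Fact.mk Nat.prime_two
  refine (sylIn_of_card Nat.prime_two T2_le_Mb2 (m := 280665) card_T2 (by rw [card_Mb2]; norm_num)
    (by norm_num)).cls (TreeOK.all wd (K := 0) ⟨two_pos, pc.ser, T2, (invT_cls _ _ _).mono T2_le_Mb2,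
      le_rfl, pc.ser.nrm, kn_zero _⟩ (wd.leaf_cls Nat.prime_two pc (K := 1048575) (refs := [])
      kn_Mb2 (by simp)) (t := tree)
      (by decide +kernel)) k hk

/-- every involution is good or exceptional -/
theorem good_or_exc {v : V} {k : L} (hk : k ∈ Mb2) (h2 : k * k = 1) (hv : k.1 v = v) : GE v k := by
  rcases cls hk (by rwa [sq]) with rfl | ⟨r, hr, g, hg, h⟩
  · exact Or.inl (good_one v)
  have h3 : g * k * g⁻¹ = el x r := h.elim id fun h => by
    rw [← inv_inv (el x r), ← h, eq_comm, inv_eq_iff_mul_eq_one, conj_mul, h2]; simp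
  have h4 : (el x r).1 (g.1 v) = g.1 v := by rw [← h3, ap_mul, ap_mul, ap_inv, hv]
  refine inv_ge.back hg ?_
  rw [h3]
  simp only [List.mem_cons, List.not_mem_nil, or_false] at hr
  rcases hr with rfl | rfl | rfl | rfl | rfl
  exacts [Or.inl (good_t1 h4), ge_tau h4, Or.inl (good_t3 h4), Or.inl (good_sig h4), Or.inl (good_st h4)]

end Cfsg.Agent.U62S
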